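import Groth.Prelude.Def_CxOX
import Groth.Prelude.Def_LocCohZ
import Groth.Agent.LocSuppLib.QCohSupp
import Groth.Agent.LocSuppLib.ClosedPre
import Groth.Agent.LocSuppLib.HZVanish
import Groth.Agent.InjModLib.GammaZ
import Groth.Agent.RpushLib.Ab
import Groth.Agent.CohLib.Leray
import Groth.Agent.CohLib.SuppPush
import Groth.Agent.LocSuppLib.Misc

/-!
# Global sections with support of modules and of abelian sheaves
-/

set_option autoImplicit false
set_option linter.style.haveILetI false
set_option backward.isDefEq.respectTransparency false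
set_option backward.isDefEq.respectTransparency.types false

noncomputable section

universe u

open CategoryTheory CategoryTheory.Limits AlgebraicGeometry TopologicalSpace Opposite
open Groth.Agent

attribute [local instance] HasDerivedCategory.standard

namespace CxOXLib

variable {U X : Scheme.{u}} (j : U ⟶ X) [IsOpenImmersion j]

/-- Sections over `V`. -/
abbrev secG (V : X.Opens) : X.Modules ⥤ AddCommGrpCat.{u} :=
  QCohLib.toAbF X ⋙ sheafToPresheaf (Opens.grothendieckTopology X.carrier) AddCommGrpCat.{u} ⋙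
    (evaluation _ AddCommGrpCat.{u}).obj (op V)

instance (V : X.Opens) : (secG V).Additive := inferInstance

/-- Sections over `V` of the sheaf of sections with support. -/
abbrev secF (V : X.Opens) : X.Modules ⥤ AddCommGrpCat.{u} :=
  DCoh.gammaZ j ⋙ secG V

theorem res_eq_zero_iff (F : X.Modules) (V : X.Opens) (s : Γ(F, V)) :
    ((Scheme.Modules.restrictAdjunction j).unit.app F).app V s = 0 ↔
      F.presheaf.map (homOfLE (inf_le_right : j.opensRange ⊓ V ≤ V)).op s = 0 := by
  rw [InjModLib.unit_app_eq_zero_iff]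
  constructor
  · intro h
    refine ProjFormLib.section_ext (M := F) _ _ fun y hy => ?_
    exact (TopCat.Presheaf.germ_res_apply F.presheaf _ y hy s).trans
      ((h y hy.1 hy.2).trans (map_zero (F.presheaf.germ (j.opensRange ⊓ V) y hy).hom).symm)
  · intro h y hy hyt
    have h1 := congrArg (F.presheaf.germ (j.opensRange ⊓ V) y ⟨hy, hyt⟩) h
    exact (TopCat.Presheaf.germ_res_apply F.presheaf
      (homOfLE (inf_le_right : j.opensRange ⊓ V ≤ V)) y ⟨hy, hyt⟩ s).symm.trans (h1.trans (map_zero _))

theorem gammaι_unit_app_zero (M : X.Modules) (V : X.Opens) (s : ↑((secF j V).obj M)) :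
    ((Scheme.Modules.restrictAdjunction j).unit.app M).app V (((CxOX.gammaZι j).app M).app V s) = 0 :=
  (ConcreteCategory.congr_hom ((secG V).map_comp
    ((CxOX.gammaZι j).app M) ((Scheme.Modules.restrictAdjunction j).unit.app M)) s).symm.trans (by
      rw [show (CxOX.gammaZι j).app M ≫ (Scheme.Modules.restrictAdjunction j).unit.app M = 0 from
        kernel.condition _, Functor.map_zero]
      rfl)

/-- Sections of `Γ_Z M` as sections vanishing on the open complement. -/
def sectSec (M : X.Modules) (V : X.Opens) :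
    ↑((secF j V).obj M) →+ LocCohZ.sectZ (X := X.carrier) (Coh.toAb M) (inf_le_right : j.opensRange ⊓ V ≤ V) :=
  ((secG V).map
    ((CxOX.gammaZι j).app M)).hom.codRestrict _ fun s =>
      (res_eq_zero_iff j M V _).1 (gammaι_unit_app_zero j M V s)

theorem sectSec_bijective (M : X.Modules) (V : X.Opens) : Function.Bijective (sectSec j M V) := by
  let S : ShortComplex X.Modules := ShortComplex.mk ((CxOX.gammaZι j).app M)
    ((Scheme.Modules.restrictAdjunction j).unit.app M) (kernel.condition _)
  let G := QCohLib.toAbF X ⋙ sheafToPresheaf (Opens.grothendieckTopology X.carrier) AddCommGrpCat.{u} ⋙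
    (evaluation _ AddCommGrpCat.{u}).obj (op V)
  haveI : G.Additive := inferInstance
  obtain ⟨hex, hmono⟩ := ((Functor.preservesFiniteLimits_tfae G).out 1 3 rfl rfl).mpr inferInstance S
    ⟨ShortComplex.exact_of_f_is_kernel _ (kernelIsKernel _), (inferInstance : Mono (kernel.ι _))⟩
  refine ⟨fun s t hst => (AddCommGrpCat.mono_iff_injective _).1 hmono (congrArg Subtype.val hst), fun t => ?_⟩
  obtain ⟨s, hs⟩ := (ShortComplex.ab_exact_iff _).1 hex t.1 ((res_eq_zero_iff j M V _).2 t.2)
  exact ⟨s, Subtype.ext hs⟩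

theorem isFlasque_gammaZ (M : X.Modules)
    [TopCat.Sheaf.IsFlasque (Coh.toAb M : TopCat.Sheaf AddCommGrpCat.{u} X.carrier)] :
    TopCat.Sheaf.IsFlasque (Coh.toAb ((DCoh.gammaZ j).obj M) : TopCat.Sheaf AddCommGrpCat.{u} X.carrier) where
  epi {W' V'} i := by
    rw [AddCommGrpCat.epi_iff_surjective]
    intro (s : ↑((secF j V'.unop).obj M))
    let x := sectSec j M V'.unop s
    let F : CohTop.Ab X.carrier := Coh.toAb M
    let Us : ULift.{u} Bool → Opens X.carrier := fun b => cond b.down V'.unop j.opensRange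
    let sf : ∀ b : ULift.{u} Bool, F.obj.obj (op (Us b)) := fun
      | ⟨true⟩ => x.1
      | ⟨false⟩ => 0
    have hc : TopCat.Presheaf.IsCompatible F.obj Us sf := by
      rintro ⟨_ | _⟩ ⟨_ | _⟩
      · rfl
      · exact (map_zero _).trans ((ConcreteCategory.congr_hom (congrArg F.obj.map (Subsingleton.elim _ _)) x.1).trans x.2).symm
      · refine Eq.trans ?_ (map_zero _).symm
        refine Eq.trans ?_ ((congrArg (F.obj.map (homOfLE (le_of_eq (inf_comm V'.unop j.opensRange))).op) x.2).trans (map_zero _))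
        exact (LocSuppLib.res_res F.obj _ _ _ x.1).symm
      · rfl
    obtain ⟨y, hy, -⟩ := TopCat.Sheaf.existsUnique_gluing (X := X.carrier) F Us sf hc
    obtain ⟨z, hz⟩ := LocSuppLib.exists_res_top_eq F y
    have hU : F.obj.map (homOfLE (le_top : j.opensRange ≤ ⊤)).op z = 0 := by
      refine Eq.trans ?_ (hy ⟨false⟩)
      rw [← hz]
      exact (LocSuppLib.res_res F.obj _ _ _ z).symm
    have hw : F.obj.map (homOfLE (inf_le_right : j.opensRange ⊓ W'.unop ≤ W'.unop)).op
        (F.obj.map (homOfLE (le_top : W'.unop ≤ ⊤)).op z) = 0 := by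
      refine Eq.trans ?_ ((congrArg (F.obj.map
        (homOfLE (inf_le_left : j.opensRange ⊓ W'.unop ≤ j.opensRange)).op) hU).trans (map_zero _))
      exact (LocSuppLib.res_res F.obj _ _ (homOfLE (le_top : j.opensRange ⊓ W'.unop ≤ ⊤)).op z).trans
        (LocSuppLib.res_res F.obj _ _ _ z).symm
    obtain ⟨w, hw'⟩ := (sectSec_bijective j M W'.unop).2 ⟨_, hw⟩
    refine ⟨w, (sectSec_bijective j M V'.unop).1 (Subtype.ext ?_)⟩
    refine (NatTrans.naturality_apply ((Scheme.Modules.toPresheaf X).map ((CxOX.gammaZι j).app M)) i w).trans ?_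
    refine (congrArg (F.obj.map i) (congrArg Subtype.val hw')).trans ?_
    refine Eq.trans (LocSuppLib.res_res F.obj _ _ (homOfLE (le_top : V'.unop ≤ ⊤)).op z) ?_
    refine Eq.trans ?_ (hy ⟨true⟩)
    rw [← hz]
    exact (LocSuppLib.res_res F.obj _ _ _ z).symm

/-- The coyoneda functor of `ℤ_V/ℤ_{U ∩ V}` on abelian sheaves. -/
abbrev zqHomF (V : X.Opens) : CohTop.Ab X.carrier ⥤ AddCommGrpCat.{u} :=
  preadditiveCoyoneda.obj (op (LocCohZ.zq (X := X.carrier) (inf_le_right : j.opensRange ⊓ V ≤ V)))

/-- `Γ_Z(V, M)` is `Hom(ℤ_V/ℤ_{U ∩ V}, M)`. -/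
def sectZIso (V : X.Opens) : secF j V ≅ QCohLib.toAbF X ⋙ zqHomF j V :=
  NatIso.ofComponents (fun M => ((AddEquiv.ofBijective _ (sectSec_bijective j M V)).trans
    (CohLib.zqHom (Coh.toAb M) (inf_le_right : j.opensRange ⊓ V ≤ V)).symm).toAddCommGrpIso) fun {M N} φ => by
    ext s
    apply (CohLib.zqHom (Coh.toAb N) (inf_le_right : j.opensRange ⊓ V ≤ V)).injective
    apply Subtype.ext
    refine (congrArg Subtype.val ((CohLib.zqHom _ _).apply_symm_apply _)).trans ?_
    refine Eq.trans ?_ (CohLib.zqHom_comp ((QCohLib.toAbF X).map φ) _ _).symm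
    refine Eq.trans ?_ (congrArg (((QCohLib.toAbF X).map φ).hom.app (op V))
      (congrArg Subtype.val ((CohLib.zqHom _ _).apply_symm_apply _))).symm
    exact ConcreteCategory.congr_hom (congrArg (secG V).map
      ((CxOX.gammaZι j).naturality φ)) s

theorem isSAcyclic_zqHomF (V : X.Opens) (F : CohTop.Ab X.carrier)
    [TopCat.Sheaf.IsFlasque (F : TopCat.Sheaf AddCommGrpCat.{u} X.carrier)] :
    SpSeqLib.IsSAcyclic (zqHomF j V) F := by
  rw [SpSeqLib.isSAcyclic_iff]
  intro q hq
  obtain ⟨p, rfl⟩ := Nat.exists_eq_succ_of_ne_zero hq.ne'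
  obtain ⟨e⟩ := CohLib.nonempty_rightDerived_coyoneda_iso_ext
    (LocCohZ.zq (X := X.carrier) (inf_le_right : j.opensRange ⊓ V ≤ V)) F (p + 1)
  haveI : Subsingleton (Abelian.Ext.{u}
      (LocCohZ.zq (X := X.carrier) (inf_le_right : j.opensRange ⊓ V ≤ V)) F (p + 1)) :=
    CohLib.subsingleton_ext_zq_of_isFlasque (inf_le_right : j.opensRange ⊓ V ≤ V) F p
  exact (AddCommGrpCat.isZero_of_subsingleton _).of_iso e

/-- Injective resolutions of modules compute cohomology with supports. -/
theorem nonempty_homology_sectZ_iso (V : X.Opens) (M : X.Modules) (I : InjectiveResolution M) (q : ℕ) :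
    Nonempty ((((secF j V).mapHomologicalComplex (ComplexShape.up ℕ)).obj I.cocomplex).homology q ≅
      AddCommGrpCat.of (LocCohZ.HZ (X := X.carrier) (Coh.toAb M) q
        (inf_le_right : j.opensRange ⊓ V ≤ V))) := by
  let i := ((HomologicalComplex.singleMapHomologicalComplex (QCohLib.toAbF X) (ComplexShape.up ℕ) 0).inv.app M) ≫
    ((QCohLib.toAbF X).mapHomologicalComplex _).map I.ι
  have : QuasiIso (((QCohLib.toAbF X).mapHomologicalComplex (ComplexShape.up ℕ)).map I.ι) := by
    rw [HomologicalComplex.quasiIso_map_iff_of_preservesHomology]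
    exact I.quasiIso
  have : QuasiIso i := by dsimp only [i]; infer_instance
  obtain ⟨e⟩ := RpushLib.nonempty_rightDerived_iso_of_acyclic (zqHomF j V) _ i (fun k => by
    haveI := I.injective k
    haveI := RpushLib.isFlasque_toAb_injective (I.cocomplex.X k)
    exact isSAcyclic_zqHomF j V ((QCohLib.toAbF X).obj (I.cocomplex.X k))) q
  obtain ⟨f⟩ := CohLib.nonempty_rightDerived_coyoneda_iso_ext
    (LocCohZ.zq (X := X.carrier) (inf_le_right : j.opensRange ⊓ V ≤ V)) (Coh.toAb M) q
  exact ⟨ShortComplex.homologyMapIso ((I.cocomplex.sc q).mapNatIso (sectZIso j V)) ≪≫ e.symm ≪≫ f⟩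

end CxOXLib
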