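import Groth.Agent.CxOXLib.Bound
import Groth.Agent.CxOXLib.Sect
import Groth.Agent.LocSuppLib.LocFree
import Groth.Agent.DCohRestrLib.Scheme
import Groth.Agent.QCohLib.AbCoh

/-!
# The first nonzero cohomology sheaf with supports
-/

set_option autoImplicit false
set_option linter.style.haveILetI false
set_option backward.isDefEq.respectTransparency false
set_option backward.isDefEq.respectTransparency.types false
set_option maxHeartbeats 1000000

noncomputable section

universe u

open CategoryTheory CategoryTheory.Limits AlgebraicGeometry TopologicalSpace Opposite HomologicalComplex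
open Groth.Agent Groth.Agent.DerLib

attribute [local instance] HasDerivedCategory.standard

namespace CxOXLib

variable {X : TopCat.{u}}

/-- Maps out of the free sheaf on the whole space. -/
abbrev freeHom (X : TopCat.{u}) : CohTop.Ab X ⥤ AddCommGrpCat.{u} :=
  preadditiveCoyoneda.obj (op (CohCx.freeSheaf (Opens.grothendieckTopology X) (⊤ : Opens X)))

/-- Global sections are maps out of the free sheaf. -/
def freeHomIso : freeHom X ≅
    sheafToPresheaf (Opens.grothendieckTopology X) AddCommGrpCat.{u} ⋙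
      (evaluation _ AddCommGrpCat.{u}).obj (op (⊤ : Opens X)) :=
  NatIso.ofComponents (fun F => (AddEquiv.ofBijective (CohFree.evalGen (Opens.grothendieckTopology X) ⊤ F)
    ⟨Function.LeftInverse.injective (CohFree.ofSect_evalGen (Opens.grothendieckTopology X) ⊤ F),
      Function.RightInverse.surjective (CohFree.evalGen_ofSect (Opens.grothendieckTopology X) ⊤ F)⟩).toAddCommGrpIso)
    fun {F G} φ => by
      ext s
      rfl

theorem isSAcyclic_freeHom (F : CohTop.Ab X) [TopCat.Sheaf.IsFlasque (F : TopCat.Sheaf AddCommGrpCat.{u} X)] :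
    SpSeqLib.IsSAcyclic (freeHom X) F := by
  rw [SpSeqLib.isSAcyclic_iff]
  intro q hq
  obtain ⟨p, rfl⟩ := Nat.exists_eq_succ_of_ne_zero hq.ne'
  obtain ⟨e⟩ := CohLib.nonempty_rightDerived_coyoneda_iso_ext
    (CohCx.freeSheaf (Opens.grothendieckTopology X) (⊤ : Opens X)) F (p + 1)
  haveI : Subsingleton (Abelian.Ext.{u}
      (CohCx.freeSheaf (Opens.grothendieckTopology X) (⊤ : Opens X)) F (p + 1)) :=
    QCohLib.subsingleton_of_isFlasque p F ⊤
  exact (AddCommGrpCat.isZero_of_subsingleton _).of_iso e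

/-- A complex of sheaves exact on sections is exact. -/
theorem exactAt_of_sections (J : CochainComplex (CohTop.Ab X) ℤ) (n : ℤ)
    (h : ∀ V : Opens X, IsZero ((((sheafToPresheaf (Opens.grothendieckTopology X) AddCommGrpCat.{u} ⋙
      (evaluation _ AddCommGrpCat.{u}).obj (op V)).mapHomologicalComplex (ComplexShape.up ℤ)).obj J).homology n)) :
    J.ExactAt n := by
  let T := Opens.grothendieckTopology X
  let P := sheafToPresheaf T AddCommGrpCat.{u}
  let a := presheafToSheaf T AddCommGrpCat.{u}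
  haveI : a.Additive := (sheafificationAdjunction T AddCommGrpCat.{u}).left_adjoint_additive
  have h0 : IsZero ((J.sc n).map P).homology := by
    rw [Functor.isZero_iff]
    intro V
    exact (h V.unop).of_iso ((((J.sc n).map P).mapHomologyIso ((evaluation _ AddCommGrpCat.{u}).obj V)).symm)
  rw [HomologicalComplex.exactAt_iff_isZero_homology]
  refine (a.map_isZero h0).of_iso ?_
  exact (ShortComplex.homologyMapIso (((J.sc n).mapNatIso
      (asIso (sheafificationAdjunction T AddCommGrpCat.{u}).counit)) ≪≫ Iso.refl _)).symm ≪≫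
    ((J.sc n).map P).mapHomologyIso a

/-- A left exact functor on a complex of acyclic objects in the first degree of nonzero cohomology. -/
theorem nonempty_homology_iso_of_acyclic {A : Type*} [Category A] [Abelian A] [EnoughInjectives A]
    {B : Type*} [Category B] [Abelian B] (G : A ⥤ B) [G.Additive] [PreservesFiniteLimits G]
    [HasDerivedCategory A] [HasDerivedCategory B]
    (J : CochainComplex A ℤ) (a m : ℤ) (ha : a ≤ m) [J.IsStrictlyGE a]
    (hac : ∀ n, SpSeqLib.IsSAcyclic G (J.X n)) (hex : ∀ n < m, J.ExactAt n) :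
    Nonempty (((G.mapHomologicalComplex (ComplexShape.up ℤ)).obj J).homology m ≅ G.obj (J.homology m)) := by
  haveI : J.IsGE m := (CochainComplex.isGE_iff _ _).2 hex
  obtain ⟨K, φ, hφ, hinj, hK⟩ :=
    CochainComplex.Plus.modelCategoryQuillen.exists_quasiIso_injective (J.truncGE m) m
  haveI := hK
  haveI : ∀ n, Injective (K.X n) := hinj
  haveI : QuasiIso φ := hφ
  haveI : K.IsStrictlyGE a := K.isStrictlyGE_of_ge a m ha
  let i := J.πTruncGE m ≫ φ
  haveI : QuasiIso i := by dsimp only [i]; infer_instance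
  haveI : QuasiIso ((G.mapHomologicalComplex (ComplexShape.up ℤ)).map i) :=
    SpSeqLib.quasiIso_map_of_isSAcyclic G i a hac fun n => SpSeqLib.isSAcyclic_of_injective _ _
  let GK := (G.mapHomologicalComplex (ComplexShape.up ℤ)).obj K
  have hz : IsZero (K.X ((ComplexShape.up ℤ).prev m)) :=
    K.isZero_of_isStrictlyGE m _ (by rw [CochainComplex.prev]; omega)
  haveI h0 : IsIso (K.homologyπ m) := ShortComplex.isIso_homologyπ (K.sc m) (hz.eq_of_src _ _)
  haveI : IsIso (GK.homologyπ m) :=
    ShortComplex.isIso_homologyπ (GK.sc m) ((G.map_isZero hz).eq_of_src _ _)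
  exact ⟨(asIso (HomologicalComplex.homologyMap ((G.mapHomologicalComplex (ComplexShape.up ℤ)).map i) m)) ≪≫
    (asIso (GK.homologyπ m)).symm ≪≫ (GK.sc m).cyclesIsoKernel ≪≫ (PreservesKernel.iso G (K.sc m).g).symm ≪≫
    G.mapIso ((K.sc m).cyclesIsoKernel.symm ≪≫ @asIso _ _ _ _ (K.homologyπ m) h0 ≪≫
      (asIso (HomologicalComplex.homologyMap i m)).symm)⟩

theorem nonempty_sections_HD_RgammaZ_iso {U X : Scheme.{u}} [IsLocallyNoetherian X] (j : U ⟶ X)
    [IsOpenImmersion j] [CxOX.HasRgammaZ j] [CxOX.HasRsectZ j] (d : ℕ)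
    (hdepth : ∀ y : ↥X, y ∉ Set.range j.base →
      (d : ℕ∞) ≤ LocCoh.depth ↑(X.presheaf.stalk y) ↑(X.presheaf.stalk y))
    (K : CochainComplex X.Modules ℤ) (hK : ∀ i : ℤ, i < (d : ℤ) → IsZero (K.X i))
    (hKlf : ∀ i : ℤ, FlatMod.IsFinLocFree (K.X i)) :
    Nonempty ((sheafToPresheaf (Opens.grothendieckTopology X.carrier) AddCommGrpCat.{u} ⋙
        (evaluation _ AddCommGrpCat.{u}).obj (op (⊤ : X.Opens))).obj
          (Coh.toAb (DCoh.HD ((CxOX.RgammaZ j).obj (DCoh.toD X K)) (2 * (d : ℤ)))) ≅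
      (DerivedCategory.homologyFunctor AddCommGrpCat.{u} (2 * (d : ℤ))).obj
        ((CxOX.RsectZ j).obj (DCoh.toD X K))) := by
  haveI : K.IsStrictlyGE (d : ℤ) := (CochainComplex.isStrictlyGE_iff _ _).2 hK
  obtain ⟨I, φ, hφ, hinj, hI⟩ := CochainComplex.Plus.modelCategoryQuillen.exists_quasiIso_injective K (d : ℤ)
  haveI := hI
  haveI : ∀ m, Injective (I.X m) := hinj
  haveI : I.IsKInjective := CochainComplex.isKInjective_of_injective I (d : ℤ)
  haveI : QuasiIso φ := hφ
  let J : CochainComplex (CohTop.Ab X.carrier) ℤ :=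
    (((DCoh.gammaZ j) ⋙ QCohLib.toAbF X).mapHomologicalComplex (ComplexShape.up ℤ)).obj I
  let eKI := asIso (DerivedCategory.Q.map φ)
  haveI : J.IsStrictlyGE (d : ℤ) := (CochainComplex.isStrictlyGE_iff _ _).2 fun i hi =>
    ((DCoh.gammaZ j) ⋙ QCohLib.toAbF X).map_isZero (I.isZero_of_isStrictlyGE _ i hi)
  have hex : ∀ n < 2 * (d : ℤ), J.ExactAt n := fun n hn => exactAt_of_sections J n fun V => by
    haveI := KInjDerived.hasRightDerivedFunctor
      ((secF j V).mapHomotopyCategory (ComplexShape.up ℤ) ⋙ DerivedCategory.Qh)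
      (KFlatLib.enoughKInj_modules (X := X))
    let RF := ((secF j V).mapHomotopyCategory (ComplexShape.up ℤ) ⋙ DerivedCategory.Qh).totalRightDerived
      DerivedCategory.Qh (HomotopyCategory.quasiIso X.Modules (ComplexShape.up ℤ))
    let α := ((secF j V).mapHomotopyCategory (ComplexShape.up ℤ) ⋙ DerivedCategory.Qh).totalRightDerivedUnit
      DerivedCategory.Qh (HomotopyCategory.quasiIso X.Modules (ComplexShape.up ℤ))
    have hb : IsZero ((DerivedCategory.homologyFunctor AddCommGrpCat.{u} n).obj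
        (RF.obj (DerivedCategory.Q.obj K))) := by
      refine isZero_RF_of_forall_single (secF j V) RF α KFlatLib.enoughKInj_modules d (n + 1 - d).toNat K
        (d : ℤ) n (by omega) hK (by omega) fun i R p hp => ?_
      obtain ⟨e⟩ := nonempty_homology_sectZ_iso j V (K.X i) R p
      haveI : Subsingleton (LocCohZ.HZ (X := X.carrier) (Coh.toAb (K.X i)) p
          (inf_le_right : j.opensRange ⊓ V ≤ V)) :=
        LocSuppLib.subsingleton_HZ_of_isZero (X := X.carrier) j.opensRange (Coh.toAb (K.X i)) d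
          ((LocSuppLib.isZero_HZsh_below_iff j.opensRange (LocSuppLib.isCoh_of_isFinLocFree (hKlf i)) d).2
            fun x hx => LocSuppLib.le_depth_stalk (hKlf i) x (hdepth x hx)) p hp V
      exact (AddCommGrpCat.isZero_of_subsingleton _).of_iso e
    obtain ⟨e⟩ := nonempty_RF_kInj_iso (secF j V) RF α KFlatLib.enoughKInj_modules I n
    exact hb.of_iso (e.symm ≪≫ (DerivedCategory.homologyFunctor _ n).mapIso (RF.mapIso eKI.symm))
  haveI : ∀ n, TopCat.Sheaf.IsFlasque (J.X n : TopCat.Sheaf AddCommGrpCat.{u} X.carrier) := fun n => by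
    haveI := RpushLib.isFlasque_toAb_injective (I.X n)
    exact isFlasque_gammaZ j (I.X n)
  obtain ⟨c⟩ := nonempty_homology_iso_of_acyclic (freeHom X.carrier) J (d : ℤ) (2 * (d : ℤ)) (by omega)
    (fun n => isSAcyclic_freeHom (J.X n)) hex
  obtain ⟨g⟩ := nonempty_RF_kInj_iso (DCoh.gammaZ j) (CxOX.RgammaZ j)
    ((CxOX.gammaZKh j).totalRightDerivedUnit DerivedCategory.Qh (HomotopyCategory.quasiIso _ _))
    KFlatLib.enoughKInj_modules I (2 * (d : ℤ))
  obtain ⟨s⟩ := nonempty_RF_kInj_iso (CxOX.sectZAb j) (CxOX.RsectZ j)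
    ((CxOX.sectZKh j).totalRightDerivedUnit DerivedCategory.Qh (HomotopyCategory.quasiIso _ _))
    KFlatLib.enoughKInj_modules I (2 * (d : ℤ))
  let G₀ := sheafToPresheaf (Opens.grothendieckTopology X.carrier) AddCommGrpCat.{u} ⋙
    (evaluation _ AddCommGrpCat.{u}).obj (op (⊤ : X.Opens))
  let J₀ := ((DCoh.gammaZ j).mapHomologicalComplex (ComplexShape.up ℤ)).obj I
  exact ⟨G₀.mapIso ((QCohLib.toAbF X).mapIso ((DerivedCategory.homologyFunctor _ _).mapIso
      ((CxOX.RgammaZ j).mapIso eKI) ≪≫ g) ≪≫ ((J₀.sc (2 * (d : ℤ))).mapHomologyIso (QCohLib.toAbF X)).symm) ≪≫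
    (freeHomIso.app _).symm ≪≫ c.symm ≪≫
    ShortComplex.homologyMapIso ((J.sc (2 * (d : ℤ))).mapNatIso freeHomIso) ≪≫
    s.symm ≪≫ (DerivedCategory.homologyFunctor _ _).mapIso ((CxOX.RsectZ j).mapIso eKI.symm)⟩

end CxOXLib
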