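import Groth.Agent.DerLib.KInjTriangulated
import Groth.Agent.DerLib.KInjRes
import Groth.Agent.PerfLib.Brutal
import Groth.Agent.SpSeqLib.AcyclicComplex
import Mathlib.CategoryTheory.Abelian.Injective.Extend
import Mathlib.Algebra.Homology.DerivedCategory.ShortExact

/-!
# Lower bounds for right derived functors on unbounded complexes
-/

set_option autoImplicit false
set_option linter.style.haveILetI false
set_option linter.unusedSectionVars false
set_option backward.isDefEq.respectTransparency false
set_option backward.isDefEq.respectTransparency.types false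

noncomputable section

universe w w' v v' u u'

open CategoryTheory CategoryTheory.Limits CategoryTheory.Pretriangulated HomologicalComplex
open Groth.Agent.DerLib

namespace CxOXLib

variable {A : Type u} [Category.{v} A] [Abelian A] [HasDerivedCategory.{w} A]
  {B : Type u'} [Category.{v'} B] [Abelian B] [HasDerivedCategory.{w'} B]
  (F : A ⥤ B) [F.Additive]
  (RF : DerivedCategory A ⥤ DerivedCategory B)
  (α : F.mapHomotopyCategory (ComplexShape.up ℤ) ⋙ DerivedCategory.Qh ⟶ DerivedCategory.Qh ⋙ RF)
  [RF.IsRightDerivedFunctor α (HomotopyCategory.quasiIso A (ComplexShape.up ℤ))]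

include α in
theorem nonempty_RF_kInj_iso (hA : KInjDerived.EnoughKInj A) (I : CochainComplex A ℤ) [I.IsKInjective] (n : ℤ) :
    Nonempty ((DerivedCategory.homologyFunctor B n).obj (RF.obj (DerivedCategory.Q.obj I)) ≅
      (((F.mapHomologicalComplex (ComplexShape.up ℤ)).obj I).homology n)) := by
  haveI := KInjDerived.isIso_app RF α hA I
  exact ⟨((DerivedCategory.homologyFunctor B n).mapIso
    (asIso (α.app ((HomotopyCategory.quotient A (ComplexShape.up ℤ)).obj I)))).symm ≪≫
    (DerivedCategory.homologyFunctorFactors B n).app _⟩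

include α in
/-- Right derived functors preserve lower bounds. -/
theorem isZero_RF_of_lt [EnoughInjectives A] (hA : KInjDerived.EnoughKInj A) (K : CochainComplex A ℤ) (a : ℤ)
    (hK : ∀ i < a, IsZero (K.X i)) (n : ℤ) (hn : n < a) :
    IsZero ((DerivedCategory.homologyFunctor B n).obj (RF.obj (DerivedCategory.Q.obj K))) := by
  haveI : K.IsStrictlyGE a := (CochainComplex.isStrictlyGE_iff _ _).2 hK
  obtain ⟨I, φ, hφ, hinj, hI⟩ := CochainComplex.Plus.modelCategoryQuillen.exists_quasiIso_injective K a
  haveI := hI
  haveI : ∀ m, Injective (I.X m) := hinj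
  haveI : I.IsKInjective := CochainComplex.isKInjective_of_injective I a
  haveI : QuasiIso φ := hφ
  obtain ⟨e⟩ := nonempty_RF_kInj_iso F RF α hA I n
  refine IsZero.of_iso ?_ ((DerivedCategory.homologyFunctor B n).mapIso
    (RF.mapIso (asIso (DerivedCategory.Q.map φ))) ≪≫ e)
  exact (HomologicalComplex.exactAt_iff_isZero_homology _ n).1 (HomologicalComplex.ExactAt.of_isZero
    (F.map_isZero (I.isZero_of_isStrictlyGE a n hn)))

include α in
theorem isZero_RF_single [EnoughInjectives A] (hA : KInjDerived.EnoughKInj A) (M : A) (d : ℕ)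
    (hM : ∀ (R : InjectiveResolution M) (p : ℕ), p < d →
      IsZero (((F.mapHomologicalComplex (ComplexShape.up ℕ)).obj R.cocomplex).homology p))
    (n a : ℤ) (hn : n < a + d) :
    IsZero ((DerivedCategory.homologyFunctor B n).obj
      (RF.obj (DerivedCategory.Q.obj ((HomologicalComplex.single A (ComplexShape.up ℤ) a).obj M)))) := by
  obtain ⟨_, _⟩ := KInjDerived.exists_isTriangulated_map hA F RF α
  let R : InjectiveResolution M := injectiveResolution M
  haveI : R.cochainComplex.IsKInjective := CochainComplex.isKInjective_of_injective _ 0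
  let eS : DerivedCategory.Q.obj ((CochainComplex.singleFunctor A a).obj M) ≅
      (DerivedCategory.Q.obj R.cochainComplex)⟦-a⟧ :=
    DerivedCategory.Q.mapIso (((CochainComplex.singleFunctors A).shiftIso (-a) a 0 (by omega)).app M).symm ≪≫
      (DerivedCategory.Q.commShiftIso (-a)).app _ ≪≫
      (shiftFunctor _ (-a)).mapIso (asIso (DerivedCategory.Q.map R.ι'))
  refine IsZero.of_iso ?_ ((DerivedCategory.homologyFunctor B n).mapIso (RF.mapIso eS ≪≫
    (RF.commShiftIso (-a)).app _))
  refine IsZero.of_iso ?_ (((DerivedCategory.homologyFunctor B 0).shiftIso (-a) n (n - a) (by omega)).app _)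
  obtain ⟨e⟩ := nonempty_RF_kInj_iso F RF α hA R.cochainComplex (n - a)
  refine IsZero.of_iso ?_ e
  refine IsZero.of_iso ?_ (HomologicalComplex.homologyMapIso (SpSeqLib.mapExtendNatIso F R.cocomplex) (n - a))
  by_cases h : 0 ≤ n - a
  · obtain ⟨p, hp⟩ := Int.eq_ofNat_of_zero_le h
    exact (hM R p (by omega)).of_iso (HomologicalComplex.extendHomologyIso _ _ (by simpa using hp.symm))
  · exact (HomologicalComplex.exactAt_iff_isZero_homology _ _).1 (HomologicalComplex.ExactAt.of_isZero
      (HomologicalComplex.isZero_extend_X _ _ _ fun i hi => h (by simp at hi; omega)))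

include α in
theorem isZero_RF_of_forall_single [EnoughInjectives A] (hA : KInjDerived.EnoughKInj A) (d : ℕ) :
    ∀ (k : ℕ) (K : CochainComplex A ℤ) (a n : ℤ), n < a + k → (∀ i < a, IsZero (K.X i)) → n < a + d →
      (∀ (i : ℤ) (R : InjectiveResolution (K.X i)) (p : ℕ), p < d →
        IsZero (((F.mapHomologicalComplex (ComplexShape.up ℕ)).obj R.cocomplex).homology p)) →
      IsZero ((DerivedCategory.homologyFunctor B n).obj (RF.obj (DerivedCategory.Q.obj K))) := by
  intro k
  induction k with
  | zero => exact fun K a n h hK _ _ => isZero_RF_of_lt F RF α hA K a hK n (by simpa using h)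
  | succ k ih =>
    intro K a n hk hK hn hT
    obtain ⟨_, _⟩ := KInjDerived.exists_isTriangulated_map hA F RF α
    let T := Groth.Agent.PerfLib.Brutal.trunc K (a + 1)
    let ι := Groth.Agent.PerfLib.Brutal.ι K (a + 1)
    haveI : ∀ i, Mono (ι.f i) := fun i => inferInstanceAs (Mono (kernel.ι _))
    haveI : Mono ι := HomologicalComplex.mono_of_mono_f ι inferInstance
    let S : ShortComplex (CochainComplex A ℤ) := ShortComplex.mk ι (cokernel.π ι) (cokernel.condition ι)
    have hS : S.ShortExact :=
      { exact := ShortComplex.exact_of_g_is_cokernel _ (cokernelIsCokernel ι)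
        mono_f := inferInstance
        epi_g := inferInstance }
    have hS' : ∀ i, (S.map (HomologicalComplex.eval A (ComplexShape.up ℤ) i)).ShortExact := fun i =>
      hS.map_of_exact (HomologicalComplex.eval A (ComplexShape.up ℤ) i)
    haveI hiso : ∀ i, a + 1 ≤ i → IsIso (ι.f i) := fun i hi => Groth.Agent.PerfLib.Brutal.isIso_ι_f K _ hi
    have hC : ∀ i, i ≠ a → IsZero ((cokernel ι).X i) := fun i hi => by
      rcases lt_or_gt_of_ne hi with h | h
      · haveI := (hS' i).epi_g
        exact IsZero.of_epi (S.map (HomologicalComplex.eval A (ComplexShape.up ℤ) i)).g (hK i h)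
      · exact ((hS' i).isIso_f_iff).1 (hiso i (by omega))
    haveI : (cokernel ι).IsStrictlyGE a := (CochainComplex.isStrictlyGE_iff _ _).2 fun i hi => hC i hi.ne
    haveI : (cokernel ι).IsStrictlyLE a := (CochainComplex.isStrictlyLE_iff _ _).2 fun i hi => hC i hi.ne'
    obtain ⟨M, ⟨eM⟩⟩ := CochainComplex.exists_iso_single (cokernel ι) a
    haveI : IsIso (S.map (HomologicalComplex.eval A (ComplexShape.up ℤ) a)).g :=
      ((hS' a).isIso_g_iff).2 (Groth.Agent.PerfLib.Brutal.isZero_X K _ (by omega))
    let eA : M ≅ K.X a := (HomologicalComplex.singleObjXSelf (ComplexShape.up ℤ) a M).symm ≪≫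
      ((HomologicalComplex.eval A (ComplexShape.up ℤ) a).mapIso eM).symm ≪≫
      (asIso (S.map (HomologicalComplex.eval A (ComplexShape.up ℤ) a)).g).symm
    have h₃ : IsZero ((DerivedCategory.homologyFunctor B n).obj
        (RF.obj (DerivedCategory.Q.obj (cokernel ι)))) :=
      (isZero_RF_single F RF α hA (K.X a) d (hT a) n a hn).of_iso ((DerivedCategory.homologyFunctor B n).mapIso
        (RF.mapIso (DerivedCategory.Q.mapIso (eM ≪≫ (HomologicalComplex.single A (ComplexShape.up ℤ) a).mapIso eA))))
    have h₁ : IsZero ((DerivedCategory.homologyFunctor B n).obj (RF.obj (DerivedCategory.Q.obj T))) := by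
      refine ih T (a + 1) n (by omega) (fun i hi => Groth.Agent.PerfLib.Brutal.isZero_X K _ hi) (by omega) ?_
      intro i R p hp
      by_cases h : a + 1 ≤ i
      · haveI := hiso i h
        let R' : InjectiveResolution (K.X i) :=
          { cocomplex := R.cocomplex
            ι := (CochainComplex.single₀ A).map (inv (ι.f i)) ≫ R.ι
            injective := R.injective }
        exact hT i R' p hp
      · have hz : IsZero (T.X i) := Groth.Agent.PerfLib.Brutal.isZero_X K _ (by omega)
        haveI : Injective (T.X i) := hz.injective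
        let R₀ : InjectiveResolution (T.X i) := InjectiveResolution.self (T.X i)
        refine IsZero.of_iso ?_ ((R.isoRightDerivedObj F p).symm ≪≫ R₀.isoRightDerivedObj F p)
        refine (HomologicalComplex.homologyFunctor B (ComplexShape.up ℕ) p).map_isZero
          ((F.mapHomologicalComplex (ComplexShape.up ℕ)).map_isZero ?_)
        exact (CochainComplex.single₀ A).map_isZero hz
    exact ((DerivedCategory.homologyFunctor B n).map_distinguished_exact _
      (RF.map_distinguished _ (DerivedCategory.triangleOfSES_distinguished hS))).isZero_of_both_zeros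
      (h₁.eq_of_src _ _) (h₃.eq_of_tgt _ _)

end CxOXLib
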