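import Groth.Agent.DCohRestrLib.Support
import Groth.Agent.LocSuppLib.QCohSupp
import Groth.Agent.DerLib.KInjUse
import Groth.Prelude.Def_CxOX

/-!
# `RΓ_Z` on the unbounded derived category of modules: triangle and universal property
-/

set_option autoImplicit false
set_option linter.style.haveILetI false
set_option backward.isDefEq.respectTransparency false
set_option backward.isDefEq.respectTransparency.types false

noncomputable section

universe u

open CategoryTheory CategoryTheory.Limits AlgebraicGeometry TopologicalSpace Opposite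
open Groth.Agent.DerLib CategoryTheory.Pretriangulated Groth.Agent.DCohRestrLib

attribute [local instance] HasDerivedCategory.standard

namespace CxOXLib

variable {U X : Scheme.{u}} (j : U ⟶ X) [IsOpenImmersion j]

theorem isSuppD_iff (K : DCoh.D X) : CxOX.IsSuppD j K ↔ IsZero ((DCoh.restrictD j).obj K) := by
  rw [isZero_iff_HD]
  refine forall_congr' fun i => ?_
  rw [isZero_iff_support_empty, support_HD_restrictD, Set.eq_empty_iff_forall_notMem]
  exact ⟨fun h w hw => h hw ⟨w, rfl⟩, fun h x hx ⟨w, hw⟩ => h w (show j w ∈ _ from hw ▸ hx)⟩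

theorem isSuppD_of_iso {K L : DCoh.D X} (e : K ≅ L) (h : CxOX.IsSuppD j K) : CxOX.IsSuppD j L :=
  (isSuppD_iff j L).2 (((isSuppD_iff j K).1 h).of_iso ((DCoh.restrictD j).mapIso e.symm))

theorem isSuppD_shift {K : DCoh.D X} (h : CxOX.IsSuppD j K) (n : ℤ) :
    CxOX.IsSuppD j (K⟦n⟧) :=
  (isSuppD_iff j _).2 (((shiftFunctor _ n).map_isZero ((isSuppD_iff j K).1 h)).of_iso
    (((DCoh.restrictD j).commShiftIso n).app K))

/-- Objects receiving no nonzero morphism from an object supported on the complement of `j`. -/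
def Orth (C : DCoh.D X) : Prop :=
  ∀ K : DCoh.D X, CxOX.IsSuppD j K → ∀ g : K ⟶ C, g = 0

theorem Orth.of_iso {j : U ⟶ X} [IsOpenImmersion j] {C C' : DCoh.D X} (e : C ≅ C') (h : Orth j C) :
    Orth j C' := fun K hK g => by
  rw [← cancel_mono e.inv, zero_comp]
  exact h K hK _

theorem Orth.shift {j : U ⟶ X} [IsOpenImmersion j] {C : DCoh.D X} (h : Orth j C) (n : ℤ) :
    Orth j (C⟦n⟧) := fun K hK g => by
  obtain ⟨g', rfl⟩ : ∃ g' : K⟦-n⟧ ⟶ C, ((shiftEquiv (DCoh.D X) n).symm.toAdjunction.homEquiv K C) g' = g :=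
    Equiv.surjective _ g
  rw [h _ (isSuppD_shift j hK _) g']
  simp [Adjunction.homEquiv_unit]

/-- `j_*` of a K-injective complex receives nothing from supported objects. -/
theorem orth_pushCx (J : CochainComplex U.Modules ℤ) [J.IsKInjective] :
    Orth j (DerivedCategory.Q.obj
      (((Scheme.Modules.pushforward j).mapHomologicalComplex (ComplexShape.up ℤ)).obj J)) := by
  intro K' hK' g
  haveI := isKInjective_pushCx j J
  let R := Scheme.Modules.restrictFunctor j
  let P := Scheme.Modules.pushforward j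
  let K := DerivedCategory.Q.objPreimage K'
  let eK : DerivedCategory.Q.obj K ≅ K' := DerivedCategory.Q.objObjPreimageIso K'
  obtain ⟨g', hg'⟩ := KInjUse.Q_map_surjective K _ (eK.hom ≫ g)
  let aC := KInjDerived.mapHomologicalComplexAdj (Scheme.Modules.restrictAdjunction j) (ComplexShape.up ℤ)
  let h := (aC.homEquiv K J).symm g'
  have hac : ((R.mapHomologicalComplex (ComplexShape.up ℤ)).obj K).Acyclic := by
    have hz : IsZero (DerivedCategory.Q.obj ((R.mapHomologicalComplex (ComplexShape.up ℤ)).obj K)) :=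
      (((isSuppD_iff j K').1 hK').of_iso ((DCoh.restrictD j).mapIso eK)).of_iso
        (R.mapDerivedCategoryFactors.app K).symm
    intro n
    rw [HomologicalComplex.exactAt_iff_isZero_homology]
    exact ((DerivedCategory.homologyFunctor U.Modules n).map_isZero hz).of_iso
      ((DerivedCategory.homologyFunctorFactors U.Modules n).app _).symm
  have h0 : (HomotopyCategory.quotient _ _).map h = 0 :=
    (HomotopyCategory.eq_of_homotopy _ _ (CochainComplex.IsKInjective.homotopyZero h hac)).trans
      (Functor.map_zero _ _ _)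
  have h1 : DerivedCategory.Q.map g' = 0 := by
    refine KInjUse.Q_map_zero_of_quotient ?_
    rw [show g' = aC.homEquiv K J h from (Equiv.apply_symm_apply _ g').symm, Adjunction.homEquiv_unit,
      Functor.map_comp]
    refine (congrArg (fun t => _ ≫ t) (show (HomotopyCategory.quotient _ _).map
      ((P.mapHomologicalComplex (ComplexShape.up ℤ)).map h) =
        (P.mapHomotopyCategory (ComplexShape.up ℤ)).map ((HomotopyCategory.quotient _ _).map h) from rfl)).trans ?_
    rw [h0, Functor.map_zero]
    exact comp_zero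
  rw [← cancel_epi eK.hom, ← hg', h1, comp_zero]

/-- The derived direct image of an open immersion lands in orthogonal objects. -/
theorem orth_Rpush [DCoh.HasRpush j] (E : DCoh.D U) : Orth j ((DCoh.Rpush j).obj E) := by
  obtain ⟨J, hJ, ⟨e⟩⟩ := KInjDerived.essSurj_kInjective KFlatLib.enoughKInj_modules E
  haveI := isIso_pushUnit j J
  refine (orth_pushCx j J).of_iso ?_
  exact (asIso ((pushUnit j).app ((HomotopyCategory.quotient U.Modules (ComplexShape.up ℤ)).obj J))) ≪≫
    (DCoh.Rpush j).mapIso e

section Gamma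

variable (U : X.Opens) [CxOX.HasRgammaZ U.ι]

/-- The inclusion of the subcomplex of sections with support. -/
def gammaCxι (I : CochainComplex X.Modules ℤ) :
    ((DCoh.gammaZ U.ι).mapHomologicalComplex (ComplexShape.up ℤ)).obj I ⟶ I where
  f n := (CxOX.gammaZι U.ι).app (I.X n)
  comm' a b _ := ((CxOX.gammaZι U.ι).naturality (I.d a b)).symm

theorem gammaZKhι_app (I : CochainComplex X.Modules ℤ) :
    (CxOX.gammaZKhι U.ι).app ((HomotopyCategory.quotient _ _).obj I) =
      DerivedCategory.Qh.map ((HomotopyCategory.quotient _ _).map (gammaCxι U I)) := by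
  show ((Functor.associator _ _ _).inv ≫
      Functor.whiskerRight ((DCoh.gammaZ U.ι).mapHomotopyCategoryFactors (ComplexShape.up ℤ)).hom
        DerivedCategory.Qh ≫
      (Functor.associator _ _ _).hom ≫
      Functor.whiskerRight (NatTrans.mapHomologicalComplex (CxOX.gammaZι U.ι) (ComplexShape.up ℤ))
        (HomotopyCategory.quotient _ _ ⋙ DerivedCategory.Qh) ≫
      Functor.whiskerRight (Functor.mapHomologicalComplexIdIso X.Modules (ComplexShape.up ℤ)).hom
        (HomotopyCategory.quotient _ _ ⋙ DerivedCategory.Qh) ≫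
      (Functor.leftUnitor _).hom).app I = _
  simp only [NatTrans.comp_app, Functor.whiskerRight_app, Functor.associator_inv_app,
    Functor.associator_hom_app, Functor.leftUnitor_hom_app, Category.id_comp, Category.comp_id]
  refine Eq.trans ?_ (congrArg (fun a => DerivedCategory.Qh.map ((HomotopyCategory.quotient _ _).map a))
    (show (NatTrans.mapHomologicalComplex (CxOX.gammaZι U.ι) (ComplexShape.up ℤ)).app I ≫
      (Functor.mapHomologicalComplexIdIso X.Modules (ComplexShape.up ℤ)).hom.app I = gammaCxι U I from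
      HomologicalComplex.hom_ext _ _ fun n => Category.comp_id _))
  refine (congrArg (fun q => q ≫ _) (DerivedCategory.Qh.map_id _)).trans ((Category.id_comp _).trans ?_)
  exact (DerivedCategory.Qh.map_comp _ _).symm.trans
    (congrArg DerivedCategory.Qh.map ((HomotopyCategory.quotient _ _).map_comp _ _).symm)

/-- The unit of `RΓ_Z`. -/
abbrev gUnit : CxOX.gammaZKh U.ι ⟶ DerivedCategory.Qh ⋙ CxOX.RgammaZ U.ι :=
  (CxOX.gammaZKh U.ι).totalRightDerivedUnit DerivedCategory.Qh (HomotopyCategory.quasiIso _ _)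

theorem gUnit_comp (I : CochainComplex X.Modules ℤ) :
    (gUnit U).app ((HomotopyCategory.quotient _ _).obj I) ≫
        (CxOX.RgammaZToId U.ι).app (DerivedCategory.Qh.obj ((HomotopyCategory.quotient _ _).obj I)) =
      DerivedCategory.Qh.map ((HomotopyCategory.quotient _ _).map (gammaCxι U I)) := by
  rw [← gammaZKhι_app]
  refine ((CxOX.RgammaZ U.ι).rightDerived_fac_app (gUnit U) (HomotopyCategory.quasiIso _ _) (𝟭 (DCoh.D X))
    (CxOX.gammaZKhι U.ι ≫ (Functor.rightUnitor _).inv) _).trans ?_
  simp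

/-- The triangle `RΓ_Z K ⟶ K ⟶ j_* J ⟶` with `J` K-injective. -/
theorem exists_triangle (K : DCoh.D X) :
    ∃ (J : CochainComplex (U : Scheme.{u}).Modules ℤ) (_ : J.IsKInjective)
      (b : K ⟶ DerivedCategory.Q.obj
        (((Scheme.Modules.pushforward U.ι).mapHomologicalComplex (ComplexShape.up ℤ)).obj J))
      (c : DerivedCategory.Q.obj
        (((Scheme.Modules.pushforward U.ι).mapHomologicalComplex (ComplexShape.up ℤ)).obj J) ⟶
          ((CxOX.RgammaZ U.ι).obj K)⟦(1 : ℤ)⟧),
      Triangle.mk ((CxOX.RgammaZToId U.ι).app K) b c ∈ distinguishedTriangles := by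
  obtain ⟨I, f, hI, hf, hinj⟩ := KInjRes.exists_resolution (DerivedCategory.Q.objPreimage K)
  haveI := hI
  haveI : QuasiIso f := (HomologicalComplex.mem_quasiIso_iff _).1 hf.2
  let e : DerivedCategory.Q.obj I ≅ K :=
    (asIso (DerivedCategory.Q.map f)).symm ≪≫ DerivedCategory.Q.objObjPreimageIso K
  let R := Scheme.Modules.restrictFunctor U.ι
  let P := Scheme.Modules.pushforward U.ι
  let J : CochainComplex (U : Scheme.{u}).Modules ℤ := (R.mapHomologicalComplex (ComplexShape.up ℤ)).obj I
  haveI : J.IsKInjective := isKInjective_restrictCx U I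
  let η := (KInjDerived.mapHomologicalComplexAdj (Scheme.Modules.restrictAdjunction U.ι)
    (ComplexShape.up ℤ)).unit.app I
  let S : ShortComplex (CochainComplex X.Modules ℤ) := ShortComplex.mk (gammaCxι U I) η
    (HomologicalComplex.hom_ext _ _ fun n => kernel.condition _)
  have hS : S.ShortExact := HomologicalComplex.shortExact_of_degreewise_shortExact S fun n =>
    LocSuppLib.shortExact_gamma U.ι (I.X n) (hinj n)
  haveI := KInjDerived.isIso_app (CxOX.RgammaZ U.ι) (gUnit U) KFlatLib.enoughKInj_modules I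
  let a := asIso ((gUnit U).app ((HomotopyCategory.quotient _ _).obj I))
  let e1 : DerivedCategory.Q.obj S.X₁ ≅ (CxOX.RgammaZ U.ι).obj K := a ≪≫ (CxOX.RgammaZ U.ι).mapIso e
  refine ⟨J, inferInstance, e.inv ≫ DerivedCategory.Q.map η,
    DerivedCategory.triangleOfSESδ hS ≫ e1.hom⟦(1 : ℤ)⟧', ?_⟩
  refine isomorphic_distinguished _ (DerivedCategory.triangleOfSES_distinguished hS) _ ?_
  refine Triangle.isoMk _ _ e1.symm e.symm (Iso.refl _) ?_ ?_ ?_
  · show (CxOX.RgammaZToId U.ι).app K ≫ e.inv = e1.inv ≫ DerivedCategory.Q.map (gammaCxι U I)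
    rw [Iso.eq_inv_comp, ← Category.assoc, Iso.comp_inv_eq]
    show (a.hom ≫ (CxOX.RgammaZ U.ι).map e.hom) ≫ (CxOX.RgammaZToId U.ι).app K = _
    rw [Category.assoc]
    erw [(CxOX.RgammaZToId U.ι).naturality e.hom]
    erw [← Category.assoc, gUnit_comp U I]
    rfl
  · show (e.inv ≫ DerivedCategory.Q.map η) ≫ 𝟙 _ = e.inv ≫ DerivedCategory.Q.map η
    rw [Category.comp_id]
  · show (DerivedCategory.triangleOfSESδ hS ≫ e1.hom⟦(1 : ℤ)⟧') ≫ e1.inv⟦(1 : ℤ)⟧' =
      𝟙 _ ≫ DerivedCategory.triangleOfSESδ hS
    rw [Category.assoc, ← Functor.map_comp, Iso.hom_inv_id, CategoryTheory.Functor.map_id, Category.comp_id,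
      Category.id_comp]

theorem isSuppD_RgammaZ (K : DCoh.D X) : CxOX.IsSuppD U.ι ((CxOX.RgammaZ U.ι).obj K) := by
  obtain ⟨I, hI, ⟨e⟩⟩ := KInjDerived.essSurj_kInjective KFlatLib.enoughKInj_modules K
  haveI := hI
  haveI := KInjDerived.isIso_app (CxOX.RgammaZ U.ι) (gUnit U) KFlatLib.enoughKInj_modules I
  refine isSuppD_of_iso U.ι ((asIso ((gUnit U).app ((HomotopyCategory.quotient _ _).obj I))) ≪≫
    (CxOX.RgammaZ U.ι).mapIso e) ((isSuppD_iff U.ι _).2 ?_)
  let R := Scheme.Modules.restrictFunctor U.ι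
  let G := ((DCoh.gammaZ U.ι).mapHomologicalComplex (ComplexShape.up ℤ)).obj I
  show IsZero ((DCoh.restrictD U.ι).obj (DerivedCategory.Q.obj G))
  refine IsZero.of_iso ?_ (R.mapDerivedCategoryFactors.app G)
  refine DerivedCategory.Q.map_isZero ?_
  rw [IsZero.iff_id_eq_zero]
  refine HomologicalComplex.hom_ext _ _ fun n => IsZero.eq_of_src ?_ _ _
  show IsZero (R.obj (kernel ((Scheme.Modules.restrictAdjunction U.ι).unit.app (I.X n))))
  haveI : IsIso (R.map ((Scheme.Modules.restrictAdjunction U.ι).unit.app (I.X n))) :=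
    @IsIso.of_isIso_comp_right _ _ _ _ _ _
      ((Scheme.Modules.restrictAdjunction U.ι).counit.app (R.obj (I.X n))) inferInstance
      (by
        rw [show R.map ((Scheme.Modules.restrictAdjunction U.ι).unit.app (I.X n)) ≫
          (Scheme.Modules.restrictAdjunction U.ι).counit.app (R.obj (I.X n)) = 𝟙 (R.obj (I.X n)) from
          (Scheme.Modules.restrictAdjunction U.ι).left_triangle_components (I.X n)]
        exact IsIso.id _)
  exact (isZero_kernel_of_mono _).of_iso (PreservesKernel.iso R _)

end Gamma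

end CxOXLib
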