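import Groth.Agent.CxOXLib.Open
import Groth.Agent.DerBCLib.Derived
import Groth.Agent.DerBCLib.Models

/-!
# Flat pullback and sections with support
-/

set_option autoImplicit false
set_option linter.style.haveILetI false
set_option backward.isDefEq.respectTransparency false
set_option backward.isDefEq.respectTransparency.types false
set_option maxHeartbeats 1000000

noncomputable section

universe u

open CategoryTheory CategoryTheory.Limits AlgebraicGeometry TopologicalSpace Opposite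
open Groth.Agent.DerLib CategoryTheory.Pretriangulated Groth.Agent.DCohRestrLib

attribute [local instance] HasDerivedCategory.standard

namespace CxOXLib

theorem orth_congr {U U' X : Scheme.{u}} {j : U ⟶ X} [IsOpenImmersion j] {k : U' ⟶ X} [IsOpenImmersion k]
    (h : Set.range j.base ⊆ Set.range k.base) {C : DCoh.D X} (hC : Orth j C) : Orth k C :=
  fun K hK g => hC K (isSuppD_mono h hK) g

/-- The third vertex of the triangle of `RΓ_Z` is a derived direct image of a restriction. -/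
theorem exists_triangle_Rpush {X : Scheme.{u}} (V : X.Opens) [CxOX.HasRgammaZ V.ι] [DCoh.HasRpush V.ι]
    (K : DCoh.D X) :
    ∃ (E : DCoh.D (V : Scheme.{u})) (_ : E ≅ (DCoh.restrictD V.ι).obj K)
      (b : K ⟶ (DCoh.Rpush V.ι).obj E)
      (c : (DCoh.Rpush V.ι).obj E ⟶ ((CxOX.RgammaZ V.ι).obj K)⟦(1 : ℤ)⟧),
      Triangle.mk ((CxOX.RgammaZToId V.ι).app K) b c ∈ distinguishedTriangles := by
  obtain ⟨J, hJ, b, c, hT⟩ := exists_triangle V K
  haveI := isIso_pushUnit V.ι J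
  let u := asIso ((pushUnit V.ι).app ((HomotopyCategory.quotient _ (ComplexShape.up ℤ)).obj J))
  let E := DerivedCategory.Qh.obj ((HomotopyCategory.quotient _ (ComplexShape.up ℤ)).obj J)
  have hiso : IsIso ((DCoh.restrictD V.ι).map b) :=
    (((DCoh.restrictD V.ι).mapTriangle.obj (Triangle.mk ((CxOX.RgammaZToId V.ι).app K) b c)).isZero₁_iff_isIso₂
      ((DCoh.restrictD V.ι).map_distinguished _ hT)).1
      ((isSuppD_iff _ _).1 (isSuppD_RgammaZ V K))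
  obtain ⟨e⟩ := nonempty_Rpush_restrictD V.ι
  refine ⟨E, (e.app E).symm ≪≫ (DCoh.restrictD V.ι).mapIso u.symm ≪≫ (asIso ((DCoh.restrictD V.ι).map b)).symm,
    b ≫ u.hom, u.inv ≫ c, isomorphic_distinguished _ hT _ ?_⟩
  refine Triangle.isoMk _ _ (Iso.refl _) (Iso.refl _) u.symm ?_ ?_ ?_
  · show (CxOX.RgammaZToId V.ι).app K ≫ 𝟙 _ = 𝟙 _ ≫ (CxOX.RgammaZToId V.ι).app K
    rw [Category.comp_id, Category.id_comp]
  · show (b ≫ u.hom) ≫ u.inv = 𝟙 _ ≫ b
    rw [Category.assoc, Iso.hom_inv_id, Category.comp_id, Category.id_comp]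
  · show (u.inv ≫ c) ≫ (shiftFunctor _ (1 : ℤ)).map (𝟙 _) = u.inv ≫ c
    rw [CategoryTheory.Functor.map_id, Category.comp_id]

variable {X Y : Scheme.{u}} (f : X ⟶ Y) (V : Y.Opens) [DCoh.HasLpull f]

theorem isSuppD_Lpull [CxOX.HasRgammaZ (f ⁻¹ᵁ V).ι] {K : DCoh.D Y} (hK : CxOX.IsSuppD V.ι K) :
    CxOX.IsSuppD (f ⁻¹ᵁ V).ι ((DCoh.Lpull f).obj K) := by
  haveI := hasRpush f
  haveI := hasRpush (f ⁻¹ᵁ V).ι
  obtain ⟨E, e, b, c, hT⟩ := exists_triangle_Rpush (f ⁻¹ᵁ V) ((DCoh.Lpull f).obj K)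
  have hb : b = 0 := ((KFlatLib.lpullRpushAdj f).homEquiv _ _).injective
    ((orth_Rpush_push f V E K hK _).trans (orth_Rpush_push f V E K hK _).symm)
  have hiso : IsIso ((DCoh.restrictD (f ⁻¹ᵁ V).ι).map b) :=
    (((DCoh.restrictD (f ⁻¹ᵁ V).ι).mapTriangle.obj
      (Triangle.mk ((CxOX.RgammaZToId (f ⁻¹ᵁ V).ι).app ((DCoh.Lpull f).obj K)) b c)).isZero₁_iff_isIso₂
      ((DCoh.restrictD (f ⁻¹ᵁ V).ι).map_distinguished _ hT)).1
      ((isSuppD_iff _ _).1 (isSuppD_RgammaZ _ _))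
  rw [isSuppD_iff]
  rw [hb, Functor.map_zero] at hiso
  exact (IsZero.iff_id_eq_zero _).2 (isIsoZeroEquiv _ _ hiso).1

theorem RgammaZ_Lpull_factors [QuasiCompact V.ι] [Flat f] [CxOX.HasRgammaZ V.ι]
    [CxOX.HasRgammaZ (f ⁻¹ᵁ V).ι] (K : DCoh.D Y) (hK : DCoh.IsQCohD K) :
    (∃ a : (DCoh.Lpull f).obj ((CxOX.RgammaZ V.ι).obj K) ⟶
        (CxOX.RgammaZ (f ⁻¹ᵁ V).ι).obj ((DCoh.Lpull f).obj K),
        a ≫ (CxOX.RgammaZToId (f ⁻¹ᵁ V).ι).app ((DCoh.Lpull f).obj K) =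
          (DCoh.Lpull f).map ((CxOX.RgammaZToId V.ι).app K)) ∧
    ∀ a : (DCoh.Lpull f).obj ((CxOX.RgammaZ V.ι).obj K) ⟶
        (CxOX.RgammaZ (f ⁻¹ᵁ V).ι).obj ((DCoh.Lpull f).obj K),
        a ≫ (CxOX.RgammaZToId (f ⁻¹ᵁ V).ι).app ((DCoh.Lpull f).obj K) =
          (DCoh.Lpull f).map ((CxOX.RgammaZToId V.ι).app K) → IsIso a := by
  have hs := isSuppD_Lpull f V (isSuppD_RgammaZ V K)
  refine ⟨(existsUnique_toId (f ⁻¹ᵁ V) _ _ hs _).exists, fun a ha => ?_⟩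
  haveI := hasRpush f
  haveI := hasRpush V.ι
  haveI := hasRpush (f ⁻¹ᵁ V).ι
  haveI := hasRpush (f ∣_ V)
  haveI := KFlatLib.hasLpull (f ∣_ V)
  obtain ⟨E, e, b, c, hT⟩ := exists_triangle_Rpush V K
  obtain ⟨J', hJ', b', c', hT'⟩ := exists_triangle (f ⁻¹ᵁ V) ((DCoh.Lpull f).obj K)
  obtain ⟨_, _⟩ := KInjDerived.exists_isTriangulated_map KFlatLib.enoughKInj_modules
    (Scheme.Modules.pushforward f) (DCoh.Rpush f) (pushUnit f)
  let adjf := KFlatLib.lpullRpushAdj f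
  letI := adjf.leftAdjointCommShift ℤ
  haveI := adjf.commShift_of_rightAdjoint ℤ
  haveI : (DCoh.Lpull f).IsTriangulated := adjf.isTriangulated_leftAdjoint
  refine isIso_of_lift ((DCoh.Lpull f).map_distinguished _ hT) hT' hs (isSuppD_RgammaZ _ _) ?_
    (orth_pushCx (f ⁻¹ᵁ V).ι J') (Iso.refl _) a (ha.trans (Category.comp_id _).symm)
  haveI := DerBCLib.isIso_baseChangeApp (isPullback_morphismRestrict f V)
    (KFlatLib.lpullRpushAdj f) (KFlatLib.lpullRpushAdj (f ∣_ V))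
    (fun T hT hTq => DerBCLib.hasLocModel_flat hT hTq) E
    (KFlatLib.isQCohD_iso e.symm (isQCohD_restrict V.ι hK))
  exact (orth_Rpush (f ⁻¹ᵁ V).ι ((DCoh.Lpull (f ∣_ V)).obj E)).of_iso
    (asIso (DCoh.baseChangeApp (KFlatLib.lpullRpushAdj f) (KFlatLib.lpullRpushAdj (f ∣_ V))
      (DerBCLib.rpushSqIso (isPullback_morphismRestrict f V).w) E)).symm

end CxOXLib
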