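import Groth.Agent.CxOXLib.Univ
import Groth.Agent.KFlatLib.QCohPull
import Groth.Agent.QCohLib.QCoh
import Mathlib.CategoryTheory.Monad.Adjunction

/-!
# Open immersions and objects with support
-/

set_option autoImplicit false
set_option linter.style.haveILetI false
set_option backward.isDefEq.respectTransparency false
set_option backward.isDefEq.respectTransparency.types false

set_option maxHeartbeats 1000000

noncomputable section

universe u

open CategoryTheory CategoryTheory.Limits AlgebraicGeometry TopologicalSpace Opposite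
open Groth.Agent.DerLib CategoryTheory.Pretriangulated Groth.Agent.DCohRestrLib

attribute [local instance] HasDerivedCategory.standard

namespace CxOXLib

variable {U V W X Y : Scheme.{u}}

theorem isSuppD_mono {j : U ⟶ X} [IsOpenImmersion j] {k : V ⟶ X} [IsOpenImmersion k] {K : DCoh.D X}
    (h : Set.range k.base ⊆ Set.range j.base) (hK : CxOX.IsSuppD j K) : CxOX.IsSuppD k K := fun i =>
  (hK i).trans (Set.compl_subset_compl.2 h)

theorem isSuppD_union {j : U ⟶ X} [IsOpenImmersion j] {k : V ⟶ X} [IsOpenImmersion k] {l : W ⟶ X}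
    [IsOpenImmersion l] {K : DCoh.D X} (h : Set.range l.base ⊆ Set.range j.base ∪ Set.range k.base)
    (hj : CxOX.IsSuppD j K) (hk : CxOX.IsSuppD k K) : CxOX.IsSuppD l K := fun i x hx hxl =>
  (h hxl).elim (hj i hx) (hk i hx)

theorem isZero_of_isSuppD_union {j : U ⟶ X} [IsOpenImmersion j] {k : V ⟶ X} [IsOpenImmersion k]
    {K : DCoh.D X} (h : ∀ x : X, x ∈ Set.range j.base ∨ x ∈ Set.range k.base)
    (hj : CxOX.IsSuppD j K) (hk : CxOX.IsSuppD k K) : IsZero K := by
  rw [isZero_iff_HD]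
  intro i
  rw [isZero_iff_support_empty, Set.eq_empty_iff_forall_notMem]
  exact fun x hx => (h x).elim (hj i hx) (hk i hx)

/-- Objects supported on the complement: two out of three. -/
theorem isSuppD₃ {j : U ⟶ X} [IsOpenImmersion j] {T : Triangle (DCoh.D X)}
    (hT : T ∈ distinguishedTriangles) (h₁ : CxOX.IsSuppD j T.obj₁) (h₂ : CxOX.IsSuppD j T.obj₂) :
    CxOX.IsSuppD j T.obj₃ :=
  (isSuppD_iff j _).2 ((((DCoh.restrictD j).mapTriangle.obj T).isZero₃_iff_isIso₁
    ((DCoh.restrictD j).map_distinguished T hT)).2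
      (isIso_of_source_target_iso_zero _ ((isSuppD_iff j _).1 h₁).isoZero ((isSuppD_iff j _).1 h₂).isoZero))

variable (j : X ⟶ Y) [IsOpenImmersion j] [DCoh.HasRpush j]

theorem nonempty_Rpush_restrictD : Nonempty (DCoh.Rpush j ⋙ DCoh.restrictD j ≅ 𝟭 (DCoh.D X)) := by
  let P := Scheme.Modules.pushforward j
  let R := Scheme.Modules.restrictFunctor j
  let e : P ⋙ R ≅ 𝟭 X.Modules := asIso (Scheme.Modules.restrictAdjunction j).counit
  haveI := isRightDerived_exact (𝟭 X.Modules)
  obtain ⟨e₁⟩ := nonempty_compIso e (DCoh.Rpush j) (pushUnit j) R.mapDerivedCategory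
    R.mapDerivedCategoryFactorsh.inv (𝟭 X.Modules).mapDerivedCategory
    (𝟭 X.Modules).mapDerivedCategoryFactorsh.inv KFlatLib.enoughKInj_modules
    (fun I hI => inferInstance)
  letI : Localization.Lifting DerivedCategory.Q (HomologicalComplex.quasiIso X.Modules (ComplexShape.up ℤ))
      ((𝟭 X.Modules).mapHomologicalComplex (ComplexShape.up ℤ) ⋙ DerivedCategory.Q)
      (𝟭 X.Modules).mapDerivedCategory := ⟨(𝟭 X.Modules).mapDerivedCategoryFactors⟩
  exact ⟨e₁ ≪≫ Localization.liftNatIso DerivedCategory.Q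
    (HomologicalComplex.quasiIso X.Modules (ComplexShape.up ℤ))
    ((𝟭 X.Modules).mapHomologicalComplex (ComplexShape.up ℤ) ⋙ DerivedCategory.Q) DerivedCategory.Q
    (𝟭 X.Modules).mapDerivedCategory (𝟭 (DCoh.D X))
    (Functor.isoWhiskerRight (Functor.mapHomologicalComplexIdIso X.Modules (ComplexShape.up ℤ))
      DerivedCategory.Q ≪≫ Functor.leftUnitor _)⟩

variable (adj : DCoh.restrictD j ⊣ DCoh.Rpush j)

include adj in
theorem isIso_counit (F : DCoh.D X) : IsIso (adj.counit.app F) := by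
  obtain ⟨e⟩ := nonempty_Rpush_restrictD j
  haveI := adj.isIso_counit_of_iso e
  infer_instance

include adj in
theorem isIso_restrictD_unit (G : DCoh.D Y) : IsIso ((DCoh.restrictD j).map (adj.unit.app G)) :=
  haveI := isIso_counit j adj ((DCoh.restrictD j).obj G)
  @IsIso.of_isIso_comp_right _ _ _ _ _ _ (adj.counit.app ((DCoh.restrictD j).obj G)) inferInstance
    (by rw [show (DCoh.restrictD j).map (adj.unit.app G) ≫ adj.counit.app ((DCoh.restrictD j).obj G) =
      𝟙 ((DCoh.restrictD j).obj G) from adj.left_triangle_components G]; exact IsIso.id _)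

include adj in
theorem orth_Rpush_adj {k : U ⟶ Y} [IsOpenImmersion k] (h : Set.range j.base ⊆ Set.range k.base)
    (F : DCoh.D X) : Orth k ((DCoh.Rpush j).obj F) := fun _ hK g =>
  (adj.homEquiv _ _).symm.injective (((isSuppD_iff j _).1 (isSuppD_mono h hK)).eq_of_src _ _)

theorem isSuppD_Rpush_of_preimage (O : Y.Opens) {k : U ⟶ X} [IsOpenImmersion k] {F : DCoh.D X}
    (h : ((j ⁻¹ᵁ O : X.Opens) : Set X) ⊆ Set.range k.base) (hF : CxOX.IsSuppD k F) :
    CxOX.IsSuppD O.ι ((DCoh.Rpush j).obj F) :=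
  isSuppD_Rpush j O (isSuppD_mono (by rwa [Scheme.Opens.range_ι]) hF)

theorem isSuppD_restrictD {k : U ⟶ Y} [IsOpenImmersion k] {l : V ⟶ X} [IsOpenImmersion l] {G : DCoh.D Y}
    (h : ∀ x ∈ Set.range l.base, j.base x ∈ Set.range k.base) (hG : CxOX.IsSuppD k G) :
    CxOX.IsSuppD l ((DCoh.restrictD j).obj G) := fun i x hx hxl => by
  rw [support_HD_restrictD] at hx
  exact hG i hx (h x hxl)

include adj in
theorem isIso_unit_of_isSuppD {k : U ⟶ Y} [IsOpenImmersion k] {G : DCoh.D Y}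
    (hG : CxOX.IsSuppD k G) (hR : CxOX.IsSuppD k ((DCoh.Rpush j).obj ((DCoh.restrictD j).obj G)))
    (key : ∀ C : DCoh.D Y, CxOX.IsSuppD j C → CxOX.IsSuppD k C →
      ∀ c : C ⟶ G⟦(1 : ℤ)⟧, c = 0) : IsIso (adj.unit.app G) := by
  obtain ⟨C, b, c, hT⟩ := distinguished_cocone_triangle (adj.unit.app G)
  haveI := isIso_restrictD_unit j adj G
  have hjC : CxOX.IsSuppD j C := (isSuppD_iff j _).2
    ((((DCoh.restrictD j).mapTriangle.obj (Triangle.mk (adj.unit.app G) b c)).isZero₃_iff_isIso₁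
      ((DCoh.restrictD j).map_distinguished _ hT)).2 ‹_›)
  have hkC : CxOX.IsSuppD k C := isSuppD₃ hT hG hR
  refine ((Triangle.mk (adj.unit.app G) b c).isZero₃_iff_isIso₁ hT).1 ?_
  show IsZero C
  obtain ⟨g, hg⟩ := Triangle.coyoneda_exact₃ _ hT (𝟙 C) (by
    show 𝟙 C ≫ c = 0
    rw [key C hjC hkC c, comp_zero])
  have hg0 : g = 0 := (adj.homEquiv _ _).symm.injective (((isSuppD_iff j _).1 hjC).eq_of_src _ _)
  rw [IsZero.iff_id_eq_zero]
  refine hg.trans ?_
  rw [hg0]
  exact zero_comp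

include adj in
theorem isIso_unit_RgammaZ (O : Y.Opens) [CxOX.HasRgammaZ O.ι]
    (hO : (O : Set Y)ᶜ ⊆ Set.range j.base) (G : DCoh.D Y) :
    IsIso (adj.unit.app ((CxOX.RgammaZ O.ι).obj G)) := by
  have hG := isSuppD_RgammaZ O G
  refine isIso_unit_of_isSuppD j adj hG
    (isSuppD_Rpush_of_preimage j O (k := (j ⁻¹ᵁ O).ι) (by rw [Scheme.Opens.range_ι])
      (isSuppD_restrictD j (fun x hx => by simpa using hx) hG)) fun C hj hk c => ?_
  refine (isZero_of_isSuppD_union (fun x => ?_) hk hj).eq_of_src c 0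
  by_cases hx : x ∈ O
  · exact Or.inl (by rw [Scheme.Opens.range_ι]; exact hx)
  · exact Or.inr (hO hx)

end CxOXLib

namespace CxOXLib

theorem isQCohD_restrict {X Y : Scheme.{u}} (j : X ⟶ Y) [IsOpenImmersion j] {K : DCoh.D Y}
    (h : DCoh.IsQCohD K) : DCoh.IsQCohD ((DCoh.restrictD j).obj K) := fun i => by
  haveI := h i
  haveI := KFlatLib.isQCoh_pullback j (DCoh.HD K i)
  haveI : Coh.IsQCoh ((DCoh.HD K i).restrict j) :=
    QCohLib.isQCoh_of_iso ((Scheme.Modules.restrictFunctorIsoPullback j).app _).symm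
  exact QCohLib.isQCoh_of_iso (restrictHDIso j K i).symm

end CxOXLib
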