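import Groth.Agent.CxOXLib.Flat
import Groth.Prelude.Def_Dual3

/-!
# The twisted inverse image with supports
-/

set_option autoImplicit false
set_option linter.style.haveILetI false
set_option backward.isDefEq.respectTransparency false
set_option backward.isDefEq.respectTransparency.types false
set_option maxHeartbeats 1000000

noncomputable section

universe u

open CategoryTheory CategoryTheory.Limits AlgebraicGeometry TopologicalSpace Opposite
open Groth.Agent.DerLib Groth.Agent.DCohRestrLib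

attribute [local instance] HasDerivedCategory.standard

namespace CxOXLib

variable {X Y : Scheme.{u}} (j : X ⟶ Y) [IsOpenImmersion j] [DCoh.HasRpush j]
  (adjj : DCoh.restrictD j ⊣ DCoh.Rpush j) (W : Y.Opens) [QuasiCompact W.ι]
  [CxOX.HasRgammaZ W.ι] [CxOX.HasRgammaZ (j ⁻¹ᵁ W).ι] (A : DCoh.D Y)

include adjj in
theorem isIso_comparison (hA : DCoh.IsQCohD A)
    (θ : (CxOX.RgammaZ (j ⁻¹ᵁ W).ι).obj ((DCoh.restrictD j).obj A) ⟶
      (DCoh.restrictD j).obj ((CxOX.RgammaZ W.ι).obj A))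
    (hθ : θ ≫ (DCoh.restrictD j).map ((CxOX.RgammaZToId W.ι).app A) =
      (CxOX.RgammaZToId (j ⁻¹ᵁ W).ι).app ((DCoh.restrictD j).obj A)) : IsIso θ := by
  haveI := KFlatLib.hasLpull j
  let u := Adjunction.leftAdjointUniq (KFlatLib.lpullRpushAdj j) adjj
  obtain ⟨⟨a, ha⟩, hiso⟩ := RgammaZ_Lpull_factors j W A hA
  haveI := hiso a ha
  let b := u.inv.app ((CxOX.RgammaZ W.ι).obj A) ≫ a ≫ (CxOX.RgammaZ (j ⁻¹ᵁ W).ι).map (u.hom.app A)
  haveI : IsIso b := by dsimp only [b]; infer_instance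
  have hb : b ≫ (CxOX.RgammaZToId (j ⁻¹ᵁ W).ι).app ((DCoh.restrictD j).obj A) =
      (DCoh.restrictD j).map ((CxOX.RgammaZToId W.ι).app A) := by
    simp only [b, Category.assoc]
    erw [(CxOX.RgammaZToId (j ⁻¹ᵁ W).ι).naturality (u.hom.app A)]
    erw [reassoc_of% ha]
    refine (congrArg (u.inv.app ((CxOX.RgammaZ W.ι).obj A) ≫ ·)
      (u.hom.naturality ((CxOX.RgammaZToId W.ι).app A))).trans ?_
    exact Iso.inv_hom_id_app_assoc u _ _
  have h1 : θ ≫ b = 𝟙 _ :=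
    (existsUnique_toId (j ⁻¹ᵁ W) _ _ (isSuppD_RgammaZ (j ⁻¹ᵁ W) _) _).unique
      (by rw [Category.assoc, hb, hθ]) (Category.id_comp _)
  haveI : IsIso (θ ≫ b) := by rw [h1]; infer_instance
  exact IsIso.of_isIso_comp_right θ b

include adjj in
theorem bijective_comparison (hA : DCoh.IsQCohD A)
    (θ : (CxOX.RgammaZ (j ⁻¹ᵁ W).ι).obj ((DCoh.restrictD j).obj A) ⟶
      (DCoh.restrictD j).obj ((CxOX.RgammaZ W.ι).obj A))
    (hθ : θ ≫ (DCoh.restrictD j).map ((CxOX.RgammaZToId W.ι).app A) =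
      (CxOX.RgammaZToId (j ⁻¹ᵁ W).ι).app ((DCoh.restrictD j).obj A))
    [IsIso (adjj.unit.app ((CxOX.RgammaZ W.ι).obj A))]
    (F : DCoh.D X) (hF : CxOX.IsSuppD (j ⁻¹ᵁ W).ι F) :
    Function.Bijective (fun φ : F ⟶ (CxOX.RgammaZ (j ⁻¹ᵁ W).ι).obj ((DCoh.restrictD j).obj A) =>
      (DCoh.Rpush j).map (φ ≫ θ) ≫ inv (adjj.unit.app ((CxOX.RgammaZ W.ι).obj A)) ≫
        (CxOX.RgammaZToId W.ι).app A) := by
  haveI := isIso_comparison j adjj W A hA θ hθ
  haveI : IsIso adjj.counit := by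
    haveI : ∀ E, IsIso (adjj.counit.app E) := isIso_counit j adjj
    exact NatIso.isIso_of_isIso_app _
  let ff := adjj.fullyFaithfulROfIsIsoCounit
  let η := adjj.unit.app ((CxOX.RgammaZ W.ι).obj A)
  have hs : CxOX.IsSuppD W.ι ((DCoh.Rpush j).obj F) := isSuppD_Rpush j W hF
  refine ⟨fun φ φ' h => ?_, fun x => ?_⟩
  · have h' : (DCoh.Rpush j).map (φ ≫ θ) ≫ inv η = (DCoh.Rpush j).map (φ' ≫ θ) ≫ inv η :=
      (existsUnique_toId W A _ hs _).unique (Category.assoc _ _ _)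
        ((Category.assoc _ _ _).trans h.symm)
    exact (cancel_mono θ).1 (ff.map_injective ((cancel_mono (inv η)).1 h'))
  · obtain ⟨y, hy, -⟩ := existsUnique_toId W A _ hs x
    obtain ⟨w, hw⟩ := ff.map_surjective (y ≫ η)
    refine ⟨w ≫ inv θ, ?_⟩
    show (DCoh.Rpush j).map ((w ≫ inv θ) ≫ θ) ≫ inv η ≫ _ = x
    rw [Category.assoc, IsIso.inv_hom_id, Category.comp_id, hw, Category.assoc, IsIso.hom_inv_id_assoc, hy]

end CxOXLib
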