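import Groth.Agent.CxOXLib.Flat
import Groth.Agent.Dual3Lib.TenExact
import Groth.Agent.KFlatLib.LpullTensor
import Groth.Agent.ProjFormLib.QCohMain

/-!
# Derived tensor products and sections with support
-/

set_option autoImplicit false
set_option linter.style.haveILetI false
set_option backward.isDefEq.respectTransparency false
set_option backward.isDefEq.respectTransparency.types false
set_option maxHeartbeats 1000000

noncomputable section

universe u

open CategoryTheory CategoryTheory.Limits AlgebraicGeometry TopologicalSpace Opposite HomologicalComplex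
open Groth.Agent Groth.Agent.DerLib CategoryTheory.Pretriangulated Groth.Agent.DCohRestrLib
open Groth.Agent.PerfDualLib Groth.Agent.ProjFormLib Groth.Agent.Dual3Lib

attribute [local instance] HasDerivedCategory.standard

namespace CxOXLib

variable {X : Scheme.{u}}

/-- The derived tensor product turns a triangle into a triangle. -/
theorem exists_lTensor_triangle (E : Cx X) [DCoh.HasLTensorCx E] {T : Triangle (DCoh.D X)}
    (hT : T ∈ distinguishedTriangles) :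
    ∃ c, Triangle.mk ((DCoh.LTensorCx E).map T.mor₁) ((DCoh.LTensorCx E).map T.mor₂) c ∈
      distinguishedTriangles := by
  let L := DCoh.LTensorCx E
  obtain ⟨P, Q, φ, hP, hQ, ⟨e⟩⟩ :=
    KFlatLib.exists_kFlat_triangle T.invRotate (inv_rot_of_distTriang _ hT)
  let M := DerivedCategory.Q.mapTriangle.obj (CochainComplex.mappingCone.triangle φ)
  let ρ : T ≅ M.rotate := (invRotCompRot.app T).symm ≪≫ (rotate _).mapIso e.symm
  obtain ⟨γ, hγ⟩ := exists_gamma E
  have hC : DCoh.IsKFlat (CochainComplex.mappingCone φ) := KFlatLib.isKFlat_mappingCone_mod hP hQ φ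
  have hP' : DCoh.IsKFlat (P⟦(1 : ℤ)⟧) := DerBCLib.isKFlat_shift_mod hP 1
  let S := CochainComplex.mappingCone.triangleRotateShortComplex φ
  have hS : (S.map (Gen.tR (Tb X) E)).ShortExact :=
    KFlatLib.shortExact_of_degSplit (KFlatLib.degSplitBimap₁ (Tb X) E
      (CochainComplex.mappingCone.triangleRotateShortComplexSplitting φ))
  let d : ∀ (A : Cx X), DCoh.IsKFlat A →
      (L.obj (DerivedCategory.Q.obj A) ≅ DerivedCategory.Q.obj ((Gen.tR (Tb X) E).obj A)) :=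
    fun A hA => γ A hA ≪≫ DerivedCategory.Q.mapIso ((tLIso E).app A)
  have hd : ∀ (A B : Cx X) (hA : DCoh.IsKFlat A) (hB : DCoh.IsKFlat B) (μ : A ⟶ B),
      L.map (DerivedCategory.Q.map μ) ≫ (d B hB).hom =
        (d A hA).hom ≫ DerivedCategory.Q.map ((Gen.tR (Tb X) E).map μ) := fun A B hA hB μ => by
    simp only [d, Iso.trans_hom, Functor.mapIso_hom, Iso.app_hom, Category.assoc]
    rw [← Category.assoc, hγ A B hA hB μ, Category.assoc, ← Functor.map_comp]
    refine congrArg (_ ≫ ·) ?_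
    rw [← Functor.map_comp]
    exact congrArg DerivedCategory.Q.map ((tLIso E).hom.naturality μ)
  let s := (DerivedCategory.Q.commShiftIso (1 : ℤ)).app P
  let i₁ : L.obj T.obj₁ ≅ DerivedCategory.Q.obj (S.map (Gen.tR (Tb X) E)).X₁ :=
    L.mapIso (Triangle.π₁.mapIso ρ) ≪≫ d Q hQ
  let i₂ : L.obj T.obj₂ ≅ DerivedCategory.Q.obj (S.map (Gen.tR (Tb X) E)).X₂ :=
    L.mapIso (Triangle.π₂.mapIso ρ) ≪≫ d _ hC
  let i₃ : L.obj T.obj₃ ≅ DerivedCategory.Q.obj (S.map (Gen.tR (Tb X) E)).X₃ :=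
    L.mapIso (Triangle.π₃.mapIso ρ ≪≫ s.symm) ≪≫ d _ hP'
  refine ⟨i₃.hom ≫ DerivedCategory.triangleOfSESδ hS ≫ i₁.inv⟦(1 : ℤ)⟧',
    isomorphic_distinguished _ (DerivedCategory.triangleOfSES_distinguished hS) _
      (Triangle.isoMk _ _ i₁ i₂ i₃ ?_ ?_ ?_)⟩
  · show L.map T.mor₁ ≫ (L.map ρ.hom.hom₂ ≫ (d _ hC).hom) = (L.map ρ.hom.hom₁ ≫ (d Q hQ).hom) ≫
      DerivedCategory.Q.map ((Gen.tR (Tb X) E).map S.f)
    rw [← Category.assoc, ← Functor.map_comp, ρ.hom.comm₁, Functor.map_comp, Category.assoc,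
      Category.assoc]
    exact congrArg (_ ≫ ·) (hd Q _ hQ hC _)
  · show L.map T.mor₂ ≫ (L.map (ρ.hom.hom₃ ≫ s.inv) ≫ (d _ hP').hom) =
      (L.map ρ.hom.hom₂ ≫ (d _ hC).hom) ≫ DerivedCategory.Q.map ((Gen.tR (Tb X) E).map S.g)
    rw [Category.assoc, ← hd _ _ hC hP', ← Category.assoc, ← Category.assoc, ← Functor.map_comp,
      ← Functor.map_comp]
    refine congrArg (fun t => L.map t ≫ (d _ hP').hom) ?_
    rw [reassoc_of% ρ.hom.comm₂]
    show ρ.hom.hom₂ ≫ (DerivedCategory.Q.map S.g ≫ s.hom) ≫ s.inv = _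
    rw [Category.assoc, Iso.hom_inv_id, Category.comp_id]
  · show (i₃.hom ≫ DerivedCategory.triangleOfSESδ hS ≫ i₁.inv⟦(1 : ℤ)⟧') ≫ i₁.hom⟦(1 : ℤ)⟧' =
      i₃.hom ≫ DerivedCategory.triangleOfSESδ hS
    rw [Category.assoc, Category.assoc, ← Functor.map_comp, Iso.inv_hom_id,
      CategoryTheory.Functor.map_id, Category.comp_id]

variable (V : X.Opens)

theorem isZero_lpull_of_isSuppD [DCoh.HasLpull V.ι] {K : DCoh.D X} (hK : CxOX.IsSuppD V.ι K) :
    IsZero ((DCoh.Lpull V.ι).obj K) := by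
  haveI := hasRpush V.ι
  rw [IsZero.iff_id_eq_zero]
  refine ((KFlatLib.lpullRpushAdj V.ι).homEquiv _ _).injective ?_
  exact (orth_Rpush V.ι _ K hK _).trans (orth_Rpush V.ι _ K hK _).symm

theorem isSuppD_of_isZero_lpull [CxOX.HasRgammaZ V.ι] [DCoh.HasLpull V.ι] {K : DCoh.D X}
    (hK : IsZero ((DCoh.Lpull V.ι).obj K)) : CxOX.IsSuppD V.ι K := by
  haveI := hasRpush V.ι
  obtain ⟨E, e, b, c, hT⟩ := exists_triangle_Rpush V K
  have hb : b = 0 := ((KFlatLib.lpullRpushAdj V.ι).homEquiv _ _).symm.injective (hK.eq_of_src _ _)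
  have hiso : IsIso ((DCoh.restrictD V.ι).map b) :=
    (((DCoh.restrictD V.ι).mapTriangle.obj
      (Triangle.mk ((CxOX.RgammaZToId V.ι).app K) b c)).isZero₁_iff_isIso₂
      ((DCoh.restrictD V.ι).map_distinguished _ hT)).1
      ((isSuppD_iff _ _).1 (isSuppD_RgammaZ _ _))
  rw [isSuppD_iff]
  rw [hb, Functor.map_zero] at hiso
  exact (IsZero.iff_id_eq_zero _).2 (isIsoZeroEquiv _ _ hiso).1

theorem isSuppD_lTensor [CxOX.HasRgammaZ V.ι] (E : Cx X) [DCoh.HasLTensorCx E] {K : DCoh.D X}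
    (hK : CxOX.IsSuppD V.ι K) : CxOX.IsSuppD V.ι ((DCoh.LTensorCx E).obj K) := by
  let P := (KFlatLib.resP X).obj E
  haveI : QuasiIso ((KFlatLib.resψ X).app E) := KFlatLib.quasiIso_resψ E
  have hP : DCoh.IsKFlat P := (KFlatLib.good_resP E).1
  haveI := KFlatLib.hasLTensorCx P
  haveI := KFlatLib.hasLTensorCx ((pullC V.ι).obj P)
  haveI := KFlatLib.hasLpull V.ι
  obtain ⟨t⟩ := nonempty_lTensor_congr_iso (M := P) (N := E)
    (asIso (DerivedCategory.Q.map ((KFlatLib.resψ X).app E)))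
  obtain ⟨l⟩ := KFlatLib.lpull_lTensorCx V.ι P hP K
  haveI := BidualSchLib.hasRSheafHom ((pullC V.ι).obj P)
  haveI : (DCoh.LTensorCx ((pullC V.ι).obj P)).PreservesZeroMorphisms :=
    Functor.preservesZeroMorphisms_of_isLeftAdjoint _
  exact isSuppD_of_iso V.ι (t.app K) (isSuppD_of_isZero_lpull V
    (((DCoh.LTensorCx ((pullC V.ι).obj P)).map_isZero (isZero_lpull_of_isSuppD V hK)).of_iso l))

theorem RgammaZ_lTensor_factors [QuasiCompact V.ι] [CxOX.HasRgammaZ V.ι] (E : Cx X) [DCoh.HasLTensorCx E]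
    (hE : DCoh.IsQCohD (DCoh.toD X E)) (F : DCoh.D X) (hF : DCoh.IsQCohD F) :
    (∃ φ : (DCoh.LTensorCx E).obj ((CxOX.RgammaZ V.ι).obj F) ⟶
        (CxOX.RgammaZ V.ι).obj ((DCoh.LTensorCx E).obj F),
        φ ≫ (CxOX.RgammaZToId V.ι).app ((DCoh.LTensorCx E).obj F) =
          (DCoh.LTensorCx E).map ((CxOX.RgammaZToId V.ι).app F)) ∧
    ∀ φ : (DCoh.LTensorCx E).obj ((CxOX.RgammaZ V.ι).obj F) ⟶
        (CxOX.RgammaZ V.ι).obj ((DCoh.LTensorCx E).obj F),
        φ ≫ (CxOX.RgammaZToId V.ι).app ((DCoh.LTensorCx E).obj F) =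
          (DCoh.LTensorCx E).map ((CxOX.RgammaZToId V.ι).app F) → IsIso φ := by
  have hs := isSuppD_lTensor V E (isSuppD_RgammaZ V F)
  refine ⟨(existsUnique_toId V _ _ hs _).exists, fun a ha => ?_⟩
  haveI := hasRpush V.ι
  haveI := KFlatLib.hasLpull V.ι
  obtain ⟨E', e, b, c, hT⟩ := exists_triangle_Rpush V F
  obtain ⟨c', hT₀⟩ := exists_lTensor_triangle E hT
  obtain ⟨J', hJ', b', c'', hT'⟩ := exists_triangle V ((DCoh.LTensorCx E).obj F)
  refine isIso_of_lift hT₀ hT' hs (isSuppD_RgammaZ _ _) ?_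
    (orth_pushCx V.ι J') (Iso.refl _) a (ha.trans (Category.comp_id _).symm)
  let M := DerivedCategory.Q.objPreimage ((DCoh.Lpull V.ι).obj (DCoh.toD X E))
  haveI := KFlatLib.hasLTensorCx M
  obtain ⟨p⟩ := nonempty_projection_DQCoh V.ι E' (KFlatLib.isQCohD_iso e.symm (isQCohD_restrict V.ι hF))
    E hE M ⟨DerivedCategory.Q.objObjPreimageIso _⟩
  exact (orth_Rpush V.ι _).of_iso p.symm

end CxOXLib
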