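import Groth.Agent.CxOXLib.Core
import Groth.Agent.KFlatLib.LpullAdj
import Groth.Agent.KFlatLib.PullKFlat

/-!
# Universal property of `RΓ_Z` and compatibility with direct images
-/

set_option autoImplicit false
set_option linter.style.haveILetI false
set_option backward.isDefEq.respectTransparency false
set_option backward.isDefEq.respectTransparency.types false

noncomputable section

universe u

open CategoryTheory CategoryTheory.Limits AlgebraicGeometry TopologicalSpace Opposite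
open Groth.Agent.DerLib CategoryTheory.Pretriangulated Groth.Agent.DCohRestrLib

attribute [local instance] HasDerivedCategory.standard

namespace CxOXLib

variable {U X : Scheme.{u}} {j : U ⟶ X} [IsOpenImmersion j]

theorem existsUnique_lift {T : Triangle (DCoh.D X)} (hT : T ∈ distinguishedTriangles) (h₃ : Orth j T.obj₃)
    {K : DCoh.D X} (hK : CxOX.IsSuppD j K) (g : K ⟶ T.obj₂) : ∃! a : K ⟶ T.obj₁, a ≫ T.mor₁ = g := by
  obtain ⟨a, ha⟩ := Triangle.coyoneda_exact₂ T hT g (h₃ K hK _)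
  refine ⟨a, ha.symm, fun b hb => sub_eq_zero.1 ?_⟩
  obtain ⟨c, hc⟩ := Triangle.coyoneda_exact₂ T.invRotate (inv_rot_of_distTriang T hT) (b - a)
    (show (b - a) ≫ T.mor₁ = 0 by rw [Preadditive.sub_comp, hb, ← ha, sub_self])
  rw [hc, (h₃.shift (-1)) K hK c, zero_comp]

theorem isIso_of_lift {T T' : Triangle (DCoh.D X)} (hT : T ∈ distinguishedTriangles)
    (hT' : T' ∈ distinguishedTriangles) (h₁ : CxOX.IsSuppD j T.obj₁) (h₁' : CxOX.IsSuppD j T'.obj₁)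
    (h₃ : Orth j T.obj₃) (h₃' : Orth j T'.obj₃) (e : T.obj₂ ≅ T'.obj₂) (a : T.obj₁ ⟶ T'.obj₁)
    (ha : a ≫ T'.mor₁ = T.mor₁ ≫ e.hom) : IsIso a := by
  obtain ⟨b, hb, -⟩ := existsUnique_lift hT h₃ h₁' (T'.mor₁ ≫ e.inv)
  refine ⟨b, (existsUnique_lift hT h₃ h₁ T.mor₁).unique ?_ (Category.id_comp _),
    (existsUnique_lift hT' h₃' h₁' T'.mor₁).unique ?_ (Category.id_comp _)⟩
  · rw [Category.assoc, hb, reassoc_of% ha, Iso.hom_inv_id, Category.comp_id]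
  · rw [Category.assoc, ha, reassoc_of% hb, Iso.inv_hom_id, Category.comp_id]

theorem nonempty_Rpush_congr {Y : Scheme.{u}} {f g : U ⟶ Y} (h : f = g) [DCoh.HasRpush f]
    [DCoh.HasRpush g] : Nonempty (DCoh.Rpush f ≅ DCoh.Rpush g) := by
  subst h
  exact ⟨Iso.refl _⟩

/-- The maps `RΓ_Z(K) ⟶ K` are coreflections onto the supported objects. -/
theorem existsUnique_toId (V : X.Opens) [CxOX.HasRgammaZ V.ι] (K K' : DCoh.D X)
    (hK' : CxOX.IsSuppD V.ι K') (g : K' ⟶ K) :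
    ∃! a : K' ⟶ (CxOX.RgammaZ V.ι).obj K, a ≫ (CxOX.RgammaZToId V.ι).app K = g := by
  obtain ⟨J, hJ, b, c, hT⟩ := exists_triangle V K
  exact existsUnique_lift hT (orth_pushCx V.ι J) hK' g

theorem isZero_RgammaZ_of_orth (V : X.Opens) [CxOX.HasRgammaZ V.ι] {K : DCoh.D X} (h : Orth V.ι K) :
    IsZero ((CxOX.RgammaZ V.ι).obj K) := by
  rw [IsZero.iff_id_eq_zero]
  exact (existsUnique_toId V K _ (isSuppD_RgammaZ V K) 0).unique
    (by rw [Category.id_comp]; exact h _ (isSuppD_RgammaZ V K) _) zero_comp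

theorem orth_of_isZero_RgammaZ (V : X.Opens) [CxOX.HasRgammaZ V.ι] {K : DCoh.D X}
    (h : IsZero ((CxOX.RgammaZ V.ι).obj K)) : Orth V.ι K := fun K' hK' g => by
  obtain ⟨a, ha, -⟩ := existsUnique_toId V K K' hK' g
  rw [← ha, h.eq_of_tgt a 0, zero_comp]

section Push

variable {Y : Scheme.{u}} (f : X ⟶ Y) (V : Y.Opens) [DCoh.HasRpush f]

theorem isSuppD_Rpush {K : DCoh.D X} (hK : CxOX.IsSuppD (f ⁻¹ᵁ V).ι K) :
    CxOX.IsSuppD V.ι ((DCoh.Rpush f).obj K) := by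
  haveI := hasRpush (f ∣_ V)
  obtain ⟨e⟩ := nonempty_restrictD_Rpush f V
  exact (isSuppD_iff _ _).2 ((isZero_Rpush _ ((isSuppD_iff _ _).1 hK)).of_iso (e.app K))

theorem orth_Rpush_push (E : DCoh.D ((f ⁻¹ᵁ V : X.Opens) : Scheme.{u}))
    [DCoh.HasRpush (f ⁻¹ᵁ V).ι] :
    Orth V.ι ((DCoh.Rpush f).obj ((DCoh.Rpush (f ⁻¹ᵁ V).ι).obj E)) := by
  haveI := hasRpush (f ∣_ V)
  haveI := hasRpush V.ι
  haveI := hasRpush ((f ⁻¹ᵁ V).ι ≫ f)
  haveI := hasRpush ((f ∣_ V) ≫ V.ι)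
  haveI := KFlatLib.hasLpull f
  haveI := KFlatLib.hasLpull (f ⁻¹ᵁ V).ι
  haveI := KFlatLib.hasLpull (f ∣_ V)
  haveI := KFlatLib.hasLpull V.ι
  haveI := KFlatLib.hasLpull ((f ⁻¹ᵁ V).ι ≫ f)
  haveI := KFlatLib.hasLpull ((f ∣_ V) ≫ V.ι)
  obtain ⟨e₁⟩ := KFlatLib.rpush_comp (f ⁻¹ᵁ V).ι f
  obtain ⟨e₂⟩ := KFlatLib.rpush_comp (f ∣_ V) V.ι
  obtain ⟨e⟩ := nonempty_Rpush_congr (morphismRestrict_ι f V).symm
  exact (orth_Rpush V.ι ((DCoh.Rpush (f ∣_ V)).obj E)).of_iso ((e₁ ≪≫ e ≪≫ e₂.symm).app E).symm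

theorem RgammaZ_Rpush_factors [CxOX.HasRgammaZ V.ι] [CxOX.HasRgammaZ (f ⁻¹ᵁ V).ι] (K : DCoh.D X) :
    (∃ a : (DCoh.Rpush f).obj ((CxOX.RgammaZ (f ⁻¹ᵁ V).ι).obj K) ⟶
        (CxOX.RgammaZ V.ι).obj ((DCoh.Rpush f).obj K),
        a ≫ (CxOX.RgammaZToId V.ι).app ((DCoh.Rpush f).obj K) =
          (DCoh.Rpush f).map ((CxOX.RgammaZToId (f ⁻¹ᵁ V).ι).app K)) ∧
    ∀ a : (DCoh.Rpush f).obj ((CxOX.RgammaZ (f ⁻¹ᵁ V).ι).obj K) ⟶
        (CxOX.RgammaZ V.ι).obj ((DCoh.Rpush f).obj K),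
        a ≫ (CxOX.RgammaZToId V.ι).app ((DCoh.Rpush f).obj K) =
          (DCoh.Rpush f).map ((CxOX.RgammaZToId (f ⁻¹ᵁ V).ι).app K) → IsIso a := by
  have hs := isSuppD_Rpush f V (isSuppD_RgammaZ (f ⁻¹ᵁ V) K)
  refine ⟨(existsUnique_toId V _ _ hs _).exists, fun a ha => ?_⟩
  obtain ⟨_, _⟩ := KInjDerived.exists_isTriangulated_map KFlatLib.enoughKInj_modules
    (Scheme.Modules.pushforward f) (DCoh.Rpush f) (pushUnit f)
  obtain ⟨J, hJ, b, c, hT⟩ := exists_triangle (f ⁻¹ᵁ V) K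
  obtain ⟨J', hJ', b', c', hT'⟩ := exists_triangle V ((DCoh.Rpush f).obj K)
  haveI := hasRpush (f ⁻¹ᵁ V).ι
  haveI := isIso_pushUnit (f ⁻¹ᵁ V).ι J
  refine isIso_of_lift ((DCoh.Rpush f).map_distinguished _ hT) hT' hs (isSuppD_RgammaZ V _) ?_
    (orth_pushCx V.ι J') (Iso.refl _) a (ha.trans (Category.comp_id _).symm)
  exact (orth_Rpush_push f V _).of_iso ((DCoh.Rpush f).mapIso
    (asIso ((pushUnit (f ⁻¹ᵁ V).ι).app ((HomotopyCategory.quotient _ (ComplexShape.up ℤ)).obj J))).symm)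

end Push

end CxOXLib
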